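import Cfsg.Agent.H4.CSy.PCount
import Cfsg.Agent.H20.PrincipalFreeThree

/-!
# The principal block at an odd prime with cyclic Sylow subgroup and inertial index two or three
-/

set_option autoImplicit false
set_option linter.style.haveILetI false
set_option linter.unusedSectionVars false

open Cfsg H76.CSy
open scoped ComplexConjugate

namespace H4.CSy

universe u

variable {G : Type u} [Group G] [Fintype G] {p : ℕ} [hp : Fact p.Prime] {P : Sylow p G}

theorem nontrivial_of_autG (h : 1 < Nat.card (H20.autG (P : Subgroup G))) :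
    Nontrivial (P : Subgroup G) := by
  by_contra hn
  rw [not_nontrivial_iff_subsingleton] at hn
  haveI : Subsingleton (MulAut (P : Subgroup G)) :=
    ⟨fun a b => MulEquiv.ext fun x => Subsingleton.elim _ _⟩
  haveI : Unique (H20.autG (P : Subgroup G)) := uniqueOfSubsingleton 1
  rw [Nat.card_unique] at h
  omega

theorem card_sylow_odd (hp2 : p ≠ 2) [Nontrivial (P : Subgroup G)] :
    3 ≤ Nat.card (P : Subgroup G) ∧ Odd (Nat.card (P : Subgroup G)) := by
  obtain ⟨k, hk⟩ := IsPGroup.iff_card.1 P.isPGroup'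
  have h1 : 1 < Nat.card (P : Subgroup G) := Finite.one_lt_card
  have hodd : Odd (Nat.card (P : Subgroup G)) := by
    rw [hk]; exact (hp.out.odd_of_ne_two hp2).pow
  refine ⟨?_, hodd⟩
  rcases hodd with ⟨m, hm⟩
  omega

theorem exists_ne_one_dual (hcyc : IsCyclic (P : Subgroup G)) [Nontrivial (P : Subgroup G)] :
    ∃ ψ : (P : Subgroup G) →* ℂˣ, ψ ≠ 1 := by
  haveI : Fintype (P : Subgroup G) := Fintype.ofFinite _
  exact H20.exists_ne_one_of_one_lt
    (fun a b => Subtype.ext ((freeSylow_cyclic hcyc).comm a a.2 b b.2)) Finite.one_lt_card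

/-- A character constant on `P#` has degree congruent to that value modulo `|P|`. -/
theorem card_dvd_degree_sub (χ : IrrCharacter G) {s : ℤ}
    (hs : ∀ u ∈ (P : Subgroup G), u ≠ 1 → (χ : G → ℂ) u = (s : ℂ)) :
    (Nat.card (P : Subgroup G) : ℤ) ∣ (charDegree (χ : G → ℂ) : ℤ) - s := by
  classical
  haveI : Fintype (P : Subgroup G) := Fintype.ofFinite _
  obtain ⟨m, hm⟩ := H20.sum_apply_eq_card_mul (Q := (P : Subgroup G)) χ
  rw [← Finset.add_sum_erase _ _ (Finset.mem_univ (1 : (P : Subgroup G))),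
    Finset.sum_congr rfl (g := fun _ : (P : Subgroup G) => (s : ℂ)) (fun u hu =>
      hs u u.2 fun h1 => Finset.ne_of_mem_erase hu (Subtype.ext h1)),
    Finset.sum_const, Finset.card_erase_of_mem (Finset.mem_univ _), Finset.card_univ, nsmul_eq_mul,
    Subgroup.coe_one, H12.irr_apply_one, ← Nat.card_eq_fintype_card,
    Nat.cast_sub Nat.card_pos, Nat.cast_one] at hm
  refine ⟨(m : ℤ) - s, Int.cast_injective (α := ℂ) ?_⟩
  push_cast
  rw [show (charDegree (χ : G → ℂ) : ℂ) = (H12.degree (χ : G → ℂ) : ℂ) by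
    rw [H20.charDegree_eq_degree]]
  linear_combination hm

variable {M : Ideal AlgInt} [hMp : M.IsPrime]

/-- The value at a singular element is a value on `P#`. -/
theorem apply_singular (h : H20.FreeSylow P) (hM : IsPModular p M) {χ : IrrCharacter G}
    (hχ : χ ∈ principalBlock M G) {g : G} (hg : p ∣ orderOf g) :
    ∃ u ∈ (P : Subgroup G), u ≠ 1 ∧ (χ : G → ℂ) g = (χ : G → ℂ) u := by
  have h1 : H20.pPart p g ≠ 1 := fun h => (H20.pPart_eq_one_iff.1 h) hg
  obtain ⟨u, hu, hc⟩ := H20.FreeSylow.exists_isConj_mem (P := P) (H20.exists_orderOf_pPart (p := p) g)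
  refine ⟨u, hu, fun hu1 => h1 ?_, ?_⟩
  · subst hu1
    exact isConj_one_left.1 hc
  · rw [h.apply_pPart hM hχ (H20.isPPart_pPart g) h1]
    exact H12.IsClassFunction.of_isConj (H12.irr_isClassFunction χ) hc

variable [Fintype (P : Subgroup G)]

theorem nonexceptional_singular (h : H20.FreeSylow P) (hM : IsPModular p M)
    (D : H20.FreeData M (P : Subgroup G)) {χ : IrrCharacter G}
    (hχ : χ ∈ principalBlock M G \ D.Y) {g : G} (hg : p ∣ orderOf g) :
    (χ : G → ℂ) g = ((-D.b χ : ℤ) : ℂ) := by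
  obtain ⟨u, hu, hu1, hval⟩ := apply_singular h hM hχ.1 hg
  rw [hval, D.sum_vZ_of_notMem h hχ.1 hχ.2 (u := ⟨u, hu⟩) (fun he => hu1 (congrArg Subtype.val he))]
  push_cast
  rfl

/-- Inertial index two: `B₀ = {1, λ}` and the exceptional characters. -/
theorem exists_two (h : H20.FreeSylow P) (hM : IsPModular p M) (hp2 : p ≠ 2)
    (he : Nat.card (H20.autG (P : Subgroup G)) = 2) :
    ∃ (D : H20.FreeData M (P : Subgroup G)) (l : IrrCharacter G), l ≠ H12.oneIrr G ∧
      (∀ η ∈ D.Y, D.b η = 0) ∧ principalBlock M G \ D.Y = {H12.oneIrr G, l} ∧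
      D.b (H12.oneIrr G) = -1 ∧ (D.b l = 1 ∨ D.b l = -1) := by
  classical
  haveI := nontrivial_of_autG (P := P) (by omega)
  obtain ⟨hP3, hodd⟩ := card_sylow_odd (P := P) hp2
  have hP1 : 1 < Nat.card (P : Subgroup G) := by omega
  have hA : ∀ a b : (P : Subgroup G), a * b = b * a := fun a b => Subtype.ext (h.comm a a.2 b b.2)
  obtain ⟨ψ, hψ⟩ := H20.exists_ne_one_of_one_lt hA hP1
  haveI : Finite ((P : Subgroup G) →* ℂˣ) := H20.finite_dual
  haveI : Fintype ((P : Subgroup G) →* ℂˣ) := Fintype.ofFinite _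
  have hoB : H12.oneIrr G ∈ principalBlock M G := H20.mem_blockOf_self (H12.oneIrr G)
  have hsq : ∀ x : ℤ, 1 ≤ x ^ 2 → x ^ 2 ≤ 2 → x = 1 ∨ x = -1 := fun x h1 h2 => by
    have h5 : x ≤ 1 := by nlinarith
    have h6 : -1 ≤ x := by nlinarith
    rcases (show x = 1 ∨ x = 0 ∨ x = -1 by omega) with rfl | rfl | rfl <;> simp_all
  rcases Nat.lt_or_ge 3 (Nat.card (P : Subgroup G)) with hgt | hle
  · -- at least two exceptional characters
    have hr : Nat.card (H20.autG (P : Subgroup G)) + 1 < Nat.card (P : Subgroup G) := by omega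
    suffices key : ∃ D : H20.FreeData M (P : Subgroup G), ∀ η ∈ D.Y, D.b η = 0 by
      obtain ⟨D, hD⟩ := key
      have hmem : D.ζ ψ ∈ D.Y := ⟨ψ, hψ, rfl⟩
      have hn := D.norm_eq h hM hmem
      rw [hD _ hmem, he, finsum_mem_eq_toFinset_sum] at hn
      have hδ : D.δ ^ 2 = 1 := by rcases D.δ_eq with h' | h' <;> rw [h'] <;> norm_num
      simp only [zero_add, hδ, ne_eq, OfNat.ofNat_ne_zero, not_false_eq_true, zero_pow, mul_zero,
        add_zero, Nat.cast_ofNat] at hn
      set X := (principalBlock M G \ D.Y).toFinset with hX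
      have hone : H12.oneIrr G ∈ X := Set.mem_toFinset.2 ⟨hoB, D.oneIrr_notMem h hr⟩
      have hsum := Finset.add_sum_erase X (fun χ => D.b χ ^ 2) hone
      simp only [D.b_oneIrr h hr] at hsum
      norm_num at hsum
      have h1 : ∑ χ ∈ X.erase (H12.oneIrr G), D.b χ ^ 2 = 1 := by linarith
      have hge : ∀ χ ∈ X.erase (H12.oneIrr G), 1 ≤ D.b χ ^ 2 := fun χ hχ => by
        have hχ' := Set.mem_toFinset.1 (Finset.mem_of_mem_erase hχ)
        nlinarith [mul_self_pos.2 (D.b_ne_zero h hM hP1 hχ'.1 hχ'.2)]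
      have hc : (X.erase (H12.oneIrr G)).card = 1 := by
        have hle := Finset.card_nsmul_le_sum _ _ _ hge
        rw [h1, nsmul_eq_mul, mul_one] at hle
        have hne : (X.erase (H12.oneIrr G)).Nonempty := by
          by_contra hne
          rw [Finset.not_nonempty_iff_eq_empty.1 hne] at h1
          simp at h1
        have := hne.card_pos
        omega
      obtain ⟨l, hl⟩ := Finset.card_eq_one.1 hc
      have hlm : l ∈ X.erase (H12.oneIrr G) := hl ▸ Finset.mem_singleton_self l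
      refine ⟨D, l, Finset.ne_of_mem_erase hlm, hD, ?_, D.b_oneIrr h hr, ?_⟩
      · rw [← Set.coe_toFinset (principalBlock M G \ D.Y), ← hX, ← Finset.insert_erase hone, hl]
        simp
      · rw [hl, Finset.sum_singleton] at h1
        exact hsq _ h1.ge (by linarith)
    obtain ⟨D₀⟩ := h.exists_freeData hM hr
    have hmem : D₀.ζ ψ ∈ D₀.Y := ⟨ψ, hψ, rfl⟩
    have hcard := D₀.card_Y h
    rw [he] at hcard
    by_cases hb : D₀.b (D₀.ζ ψ) = 0
    · exact ⟨D₀, fun η hη => (D₀.b_eq_of_mem hη hmem).trans hb⟩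
    have hn := D₀.norm_eq h hM hmem
    rw [he, finsum_mem_eq_toFinset_sum, Nat.cast_ofNat] at hn
    set X := (principalBlock M G \ D₀.Y).toFinset with hX
    have hone : H12.oneIrr G ∈ X := Set.mem_toFinset.2 ⟨hoB, D₀.oneIrr_notMem h hr⟩
    have hsum := Finset.add_sum_erase X (fun χ => D₀.b χ ^ 2) hone
    simp only [D₀.b_oneIrr h hr] at hsum
    norm_num at hsum
    have hrest : 0 ≤ ∑ χ ∈ X.erase (H12.oneIrr G), D₀.b χ ^ 2 :=
      Finset.sum_nonneg fun χ _ => sq_nonneg _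
    set t := D₀.b (D₀.ζ ψ) with ht
    set r := Nat.card D₀.Y
    have hr2 : (2 : ℤ) ≤ (r : ℤ) := by omega
    have ht2 : 1 ≤ t ^ 2 := by nlinarith [mul_self_pos.2 hb]
    have ht1 : t = 1 ∨ t = -1 := hsq t ht2 (by nlinarith [sq_nonneg (t + D₀.δ)])
    have htδ : t = -D₀.δ := by
      rcases ht1 with h1 | h1 <;> rcases D₀.δ_eq with h2 | h2 <;>
        first
          | omega
          | (rw [h1, h2] at hn; norm_num at hn; linarith)
    have hn' : ∑ χ ∈ X.erase (H12.oneIrr G), D₀.b χ ^ 2 + ((r : ℤ) - 1) = 2 := by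
      have : t ^ 2 = 1 := by rcases ht1 with h1 | h1 <;> rw [h1] <;> norm_num
      rw [← hsum, this, htδ] at hn
      simp at hn
      linarith
    rcases Nat.lt_or_ge r 3 with hr3 | hr3
    · have h2 : Nat.card D₀.Y = 2 := by omega
      refine ⟨D₀.flip h2, fun η hη => ?_⟩
      have hηY : η ∈ D₀.Y := by
        obtain ⟨φ, hφ, rfl⟩ := hη
        have hmem' := (D₀.flip h2).ζ_mem φ hφ
        by_contra hnot
        have h1 := ((D₀.flip h2).vZ_eq φ hφ _ hmem').1 rfl
        have h3 : ((D₀.flip h2).b ((D₀.flip h2).ζ φ)) = D₀.b ((D₀.flip h2).ζ φ) := if_neg hnot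
        have h4 := (D₀.vZ_eq φ hφ _ hmem').2 fun e => hnot ⟨φ, hφ, e.symm⟩
        rw [h3, h4] at h1
        change D₀.b _ = D₀.b _ + -D₀.δ at h1
        rcases D₀.δ_eq with h5 | h5 <;> omega
      show (if η ∈ D₀.Y then D₀.b η + D₀.δ else D₀.b η) = 0
      rw [if_pos hηY, D₀.b_eq_of_mem hηY hmem, ← ht, htδ]
      ring
    exfalso
    have hr3' : r = 3 := by
      have : (r : ℤ) ≤ 3 := by linarith
      omega
    have hX1 : X.erase (H12.oneIrr G) = ∅ := by
      by_contra hne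
      obtain ⟨χ, hχ⟩ := Finset.nonempty_of_ne_empty hne
      have h1 := Finset.single_le_sum (f := fun χ => D₀.b χ ^ 2) (fun x _ => sq_nonneg _) hχ
      have hχ' := Set.mem_toFinset.1 (Finset.mem_of_mem_erase hχ)
      have h2 : 1 ≤ D₀.b χ ^ 2 := by
        nlinarith [mul_self_pos.2 (D₀.b_ne_zero h hM hP1 hχ'.1 hχ'.2)]
      rw [hr3'] at hn'
      push_cast at hn'
      linarith
    have hrel := D₀.regular_relation hM hmem (g := (1 : G)) (by simp [hp.out.ne_one])
    rw [finsum_mem_eq_toFinset_sum] at hrel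
    change (∑ χ ∈ X, _) + _ = _ at hrel
    rw [← Finset.add_sum_erase X _ hone, hX1, Finset.sum_empty, D₀.b_oneIrr h hr, H12.oneIrr_apply,
      H12.irr_apply_one, ← ht, htδ] at hrel
    change _ + ((r : ℂ) * _ + _) * _ = _ at hrel
    rw [hr3'] at hrel
    push_cast at hrel
    rcases D₀.δ_eq with hd | hd <;> rw [hd] at hrel
    · have h1 : ((-1 - 2 * (H12.degree (D₀.ζ ψ : G → ℂ) : ℤ) : ℤ) : ℂ) = ((0 : ℤ) : ℂ) := by
        push_cast at hrel ⊢; linear_combination hrel
      have h2 := Int.cast_injective h1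
      omega
    · have h1 : ((-1 + 2 * (H12.degree (D₀.ζ ψ : G → ℂ) : ℤ) : ℤ) : ℂ) = ((0 : ℤ) : ℂ) := by
        push_cast at hrel ⊢; linear_combination hrel
      have h2 := Int.cast_injective h1
      omega
  · -- `|P| = 3`
    haveI : Fintype (H20.autG (P : Subgroup G)) := Fintype.ofFinite _
    have hsurj : ∀ φ : (P : Subgroup G) →* ℂˣ, φ ≠ 1 → ∃ a, H20.dualTw ψ a = φ := by
      intro φ hφ
      have hc : Finset.univ.image (H20.dualTw ψ) =
          Finset.univ.erase (1 : (P : Subgroup G) →* ℂˣ) := by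
        refine Finset.eq_of_subset_of_card_le (fun x hx => ?_) ?_
        · obtain ⟨a, -, rfl⟩ := Finset.mem_image.1 hx
          exact Finset.mem_erase.2 ⟨fun h' => hψ (H20.dualTw_eq_one_iff.1 h'), Finset.mem_univ _⟩
        · rw [Finset.card_image_of_injective _ (h.dualTw_injective hψ),
            Finset.card_erase_of_mem (Finset.mem_univ _), Finset.card_univ, Finset.card_univ,
            ← Nat.card_eq_fintype_card (α := H20.autG (P : Subgroup G)), he]
          have h2 : Fintype.card ((P : Subgroup G) →* ℂˣ) = Nat.card (P : Subgroup G) := by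
            exact_mod_cast H20.card_dual hA
          omega
      have : φ ∈ Finset.univ.image (H20.dualTw ψ) :=
        hc ▸ Finset.mem_erase.2 ⟨hφ, Finset.mem_univ _⟩
      obtain ⟨a, -, ha⟩ := Finset.mem_image.1 this
      exact ⟨a, ha⟩
    let β : IrrCharacter G → ℤ := fun χ => H20.vZ (P : Subgroup G) χ ψ
    have hβ : ∀ χ : IrrCharacter G, ∀ φ, φ ≠ 1 → H20.vZ (P : Subgroup G) χ φ = β χ := by
      intro χ φ hφ
      obtain ⟨a, ha⟩ := hsurj φ hφ
      rw [← ha, H20.vZ_dualTw]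
    have hval : ∀ χ : IrrCharacter G, ∀ v : (P : Subgroup G), v ≠ 1 →
        (χ : G → ℂ) v = -(β χ : ℂ) := by
      intro χ v hv
      have h0 : H20.vZ (P : Subgroup G) χ 1 = 0 := by
        have := H20.vZ_spec (P : Subgroup G) χ 1
        simp [H20.vInner] at this
        exact_mod_cast this
      rw [h.apply_eq_sum_vZ χ hv,
        ← Finset.add_sum_erase _ _ (Finset.mem_univ (1 : (P : Subgroup G) →* ℂˣ)), h0, Int.cast_zero,
        zero_mul, zero_add, Finset.sum_congr rfl (g := fun φ : (P : Subgroup G) →* ℂˣ =>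
          (β χ : ℂ) * (φ v : ℂ)) fun φ hφ => by rw [hβ χ φ (Finset.ne_of_mem_erase hφ)]]
      rw [← Finset.mul_sum, Finset.sum_erase_eq_sub (Finset.mem_univ _), H20.sum_dual_ne_one hA hv]
      simp
    obtain ⟨v, hv⟩ := exists_ne (1 : (P : Subgroup G))
    have hne : ∀ χ ∈ principalBlock M G, β χ ≠ 0 := by
      intro χ hχ h0
      obtain ⟨w, hw, hw1, hne⟩ := h.exists_apply_ne_zero hM hP1 hχ
      exact hne (by
        rw [hval χ ⟨w, hw⟩ (fun h' => hw1 (congrArg Subtype.val h')), h0]; simp)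
    have hone : β (H12.oneIrr G) = -1 := by
      have h1 := hval (H12.oneIrr G) v hv
      rw [H12.oneIrr_apply] at h1
      have h2 : (β (H12.oneIrr G) : ℂ) = ((-1 : ℤ) : ℂ) := by push_cast; linear_combination h1
      exact_mod_cast h2
    have hg := h.gram_ne_one hM hψ hψ
    rw [if_pos ⟨1, rfl⟩, he, finsum_mem_eq_toFinset_sum] at hg
    set B := (principalBlock M G).toFinset with hB
    have hsum := Finset.add_sum_erase B (fun χ => β χ * β χ) (Set.mem_toFinset.2 hoB)
    rw [hone] at hsum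
    set X := B.erase (H12.oneIrr G) with hX
    change (∑ χ ∈ B, β χ * β χ) = _ at hg
    have h2 : ∑ χ ∈ X, β χ * β χ = 2 := by
      rw [hg] at hsum
      push_cast at hsum
      linarith
    have hge : ∀ χ ∈ X, 1 ≤ β χ * β χ := fun χ hχ =>
      mul_self_pos.2 (hne χ (Set.mem_toFinset.1 (Finset.mem_of_mem_erase hχ)))
    have hpm : ∀ χ ∈ X, β χ = 1 ∨ β χ = -1 := fun χ hχ =>
      hsq _ (by rw [pow_two]; exact hge χ hχ) (by
        rw [pow_two, ← h2]
        exact Finset.single_le_sum (f := fun χ => β χ * β χ) (fun x _ => mul_self_nonneg _) hχ)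
    have hcard : X.card = 2 := by
      rw [Finset.sum_congr rfl (g := fun _ => (1 : ℤ)) (fun χ hχ => by
        rcases hpm χ hχ with h' | h' <;> rw [h'] <;> norm_num), Finset.sum_const, nsmul_eq_mul,
        mul_one] at h2
      exact_mod_cast h2
    obtain ⟨l, m, hlm, hXlm⟩ := Finset.card_eq_two.1 hcard
    have hl : l ∈ X := by rw [hXlm]; simp
    have hm : m ∈ X := by rw [hXlm]; simp
    have hmB : m ∈ principalBlock M G := Set.mem_toFinset.1 (Finset.mem_of_mem_erase hm)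
    let D : H20.FreeData M (P : Subgroup G) :=
      { δ := β m
        ζ := fun _ => m
        b := fun χ => if χ = m then 0 else β χ
        δ_eq := hpm m hm
        ζ_mem := fun _ _ => hmB
        ζ_eq_iff := fun φ φ' hφ hφ' => by
          refine ⟨fun _ => ?_, fun _ => rfl⟩
          obtain ⟨a, ha⟩ := hsurj φ hφ
          obtain ⟨b, hb⟩ := hsurj φ' hφ'
          exact ⟨a⁻¹ * b, by rw [← ha, H20.dualTw_mul, mul_inv_cancel_left, hb]⟩
        vZ_eq := fun φ hφ χ _ => by
          rw [hβ χ φ hφ]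
          refine ⟨fun he' => ?_, fun he' => by rw [if_neg he']⟩
          rw [if_pos he', he', zero_add]
        b_ζ := fun _ _ _ _ => rfl }
    have hY : D.Y = {m} := by
      ext χ
      refine ⟨?_, ?_⟩
      · rintro ⟨φ, -, rfl⟩; rfl
      · rintro rfl; exact ⟨ψ, hψ, rfl⟩
    refine ⟨D, l, Finset.ne_of_mem_erase hl, fun η hη => ?_, ?_, ?_, ?_⟩
    · rw [hY, Set.mem_singleton_iff] at hη
      exact if_pos hη
    · ext χ
      rw [hY, Set.mem_sdiff, Set.mem_singleton_iff, Set.mem_insert_iff, Set.mem_singleton_iff,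
        ← Set.mem_toFinset, ← Finset.insert_erase (Set.mem_toFinset.2 hoB : H12.oneIrr G ∈ B),
        ← hX, hXlm]
      simp only [Finset.mem_insert, Finset.mem_singleton]
      constructor
      · rintro ⟨h1 | h1 | h1, h3⟩
        · exact Or.inl h1
        · exact Or.inr h1
        · exact absurd h1 h3
      · rintro (h1 | h1)
        · exact ⟨Or.inl h1, by rw [h1]; exact (Finset.ne_of_mem_erase hm).symm⟩
        · exact ⟨Or.inr (Or.inl h1), by rw [h1]; exact hlm⟩
    · show (if _ then _ else _) = _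
      rw [if_neg (Finset.ne_of_mem_erase hm).symm]
      exact hone
    · show (if _ then _ else _) = _ ∨ (if _ then _ else _) = _
      rw [if_neg hlm]
      exact hpm l hl

/-- An inertial group of order two acts by inversion. -/
theorem autG_inv (h : H20.FreeSylow P) (he : Nat.card (H20.autG (P : Subgroup G)) = 2)
    {a : H20.autG (P : Subgroup G)} (ha : a ≠ 1) (u : (P : Subgroup G)) :
    (a : MulAut (P : Subgroup G)) u = u⁻¹ := by
  have haa : a * a = 1 := by
    rw [← pow_two, ← he]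
    exact pow_card_eq_one'
  have h1 : (a : MulAut (P : Subgroup G)) ((a : MulAut (P : Subgroup G)) u) = u := by
    rw [← MulAut.mul_apply, ← Subgroup.coe_mul, haa, Subgroup.coe_one, MulAut.one_apply]
  have h2 : (a : MulAut (P : Subgroup G)) (u * (a : MulAut (P : Subgroup G)) u) =
      u * (a : MulAut (P : Subgroup G)) u := by
    rw [map_mul, h1]
    exact Subtype.ext (h.comm _ (SetLike.coe_mem _) _ u.2)
  by_contra hne
  exact ha (h.autG_free (fun h3 => hne (eq_inv_of_mul_eq_one_right h3)) h2)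

theorem sum_dualTw_two (h : H20.FreeSylow P) [Fintype (H20.autG (P : Subgroup G))]
    (he : Nat.card (H20.autG (P : Subgroup G)) = 2) (ψ : (P : Subgroup G) →* ℂˣ)
    (u : (P : Subgroup G)) :
    ∑ a : H20.autG (P : Subgroup G), (H20.dualTw ψ a u : ℂ) = (ψ u : ℂ) + ((ψ u)⁻¹ : ℂˣ) := by
  classical
  obtain ⟨a, ha⟩ : ∃ a : H20.autG (P : Subgroup G), a ≠ 1 := by
    haveI : Nontrivial (H20.autG (P : Subgroup G)) :=
      Finite.one_lt_card_iff_nontrivial.1 (by omega)
    exact exists_ne _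
  have huniv : (Finset.univ : Finset (H20.autG (P : Subgroup G))) = {1, a} := by
    refine (Finset.eq_univ_of_card _ ?_).symm
    rw [Finset.card_pair ha.symm, ← Nat.card_eq_fintype_card, he]
  rw [huniv, Finset.sum_pair ha.symm, H20.dualTw_one, H20.dualTw_apply, autG_inv h he ha, map_inv]

variable [Fintype ((P : Subgroup G) →* ℂˣ)] [DecidableEq ((P : Subgroup G) →* ℂˣ)]

theorem sum_nonone_dual (h : H20.FreeSylow P) {u : (P : Subgroup G)} (hu : u ≠ 1) :
    ∑ ψ ∈ Finset.univ.erase (1 : (P : Subgroup G) →* ℂˣ), (ψ u : ℂ) = -1 := by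
  rw [Finset.sum_erase_eq_sub (Finset.mem_univ _), H20.sum_dual_ne_one
    (fun a b => Subtype.ext (h.comm a a.2 b b.2)) hu]
  simp

theorem triple : TripleStmt.{u} := by
  intro G _ _ p _ M hM hp2 P hcyc hidx
  classical
  haveI := Fintype.ofFinite G
  haveI : M.IsPrime := hM.2.1.isPrime
  haveI : Fintype (P : Subgroup G) := Fintype.ofFinite _
  haveI : Fintype (H20.autG (P : Subgroup G)) := Fintype.ofFinite _
  have h := freeSylow_cyclic hcyc
  have he : Nat.card (H20.autG (P : Subgroup G)) = 2 := (H20.card_autG _).trans hidx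
  obtain ⟨D, l, hl1, hD0, hX, hb1, hbl⟩ := exists_two h hM hp2 he
  have hone : (H12.oneIrr G : G → ℂ) = fun _ => 1 := funext fun g => H12.oneIrr_apply G g
  have hlX : l ∈ principalBlock M G \ D.Y := by rw [hX]; exact Or.inr rfl
  have hoX : H12.oneIrr G ∈ principalBlock M G \ D.Y := by rw [hX]; exact Or.inl rfl
  have hne : ∀ χ : IrrCharacter G, χ ≠ H12.oneIrr G → (χ : G → ℂ) ≠ fun _ => 1 := fun χ hχ he' =>
    hχ (Subtype.ext (he'.trans hone.symm))
  refine ⟨{
    lam := l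
    δ := -D.b l
    ε := D.δ
    ζ := D.ζ
    δ_eq := by omega
    ε_eq := D.δ_eq
    lam_ne := hne l hl1
    lam_mem := hlX.1
    ζ_mem := D.ζ_mem
    ζ_ne := fun ψ hψ => ⟨fun he' => hlX.2 ⟨ψ, hψ, he'⟩,
      hne _ fun he' => hoX.2 ⟨ψ, hψ, he'⟩⟩
    ζ_eq_iff := fun ψ φ hψ hφ => by
      rw [D.ζ_eq_iff ψ φ hψ hφ]
      constructor
      · rintro ⟨a, rfl⟩
        by_cases ha : a = 1
        · exact Or.inl (by rw [ha]; rfl)
        · refine Or.inr (MonoidHom.ext fun u => ?_)
          rw [H20.dualTw_apply, autG_inv h he ha, map_inv]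
          rfl
      · rintro (rfl | rfl)
        · exact ⟨1, rfl⟩
        · haveI : Nontrivial (H20.autG (P : Subgroup G)) :=
            Finite.one_lt_card_iff_nontrivial.1 (by omega)
          obtain ⟨a, ha⟩ := exists_ne (1 : H20.autG (P : Subgroup G))
          refine ⟨a, MonoidHom.ext fun u => ?_⟩
          rw [H20.dualTw_apply, autG_inv h he ha, map_inv]
          rfl
    block := fun χ hχ => by
      by_cases hY : χ ∈ D.Y
      · obtain ⟨ψ, hψ, rfl⟩ := hY
        exact Or.inr (Or.inr ⟨ψ, hψ, rfl⟩)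
      · have : χ ∈ principalBlock M G \ D.Y := ⟨hχ, hY⟩
        rw [hX] at this
        rcases this with rfl | h1
        · exact Or.inl hone
        · exact Or.inr (Or.inl h1)
    lam_sing := fun g hg => nonexceptional_singular h hM D hlX hg
    ζ_sing := fun ψ hψ u hu w hw hwo => by
      have hwC : w ∈ Subgroup.centralizer ({(u : G)} : Set G) :=
        Subgroup.mem_centralizer_singleton_iff.2 hw.symm
      have h1 := h.apply_shift hM (D.ζ_mem ψ hψ) u.2 (fun h' => hu (Subtype.ext h')) ⟨w, hwC⟩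
        (by rwa [Subgroup.orderOf_mk])
      rw [h1, D.apply_ζ h hψ hu, hD0 _ ⟨ψ, hψ, rfl⟩, sum_dualTw_two h he]
      simp
    rel := fun ψ hψ g hg => by
      have h1 := D.regular_relation hM ⟨ψ, hψ, rfl⟩ hg
      rw [hD0 _ ⟨ψ, hψ, rfl⟩, hX, finsum_mem_pair (Ne.symm hl1), hb1, H12.oneIrr_apply] at h1
      push_cast at h1 ⊢
      linear_combination -h1 }⟩

omit [Fintype (P : Subgroup G)] [Fintype ((P : Subgroup G) →* ℂˣ)]
  [DecidableEq ((P : Subgroup G) →* ℂˣ)] in
/-- The congruence at a commuting involution. -/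
theorem dvd_sub_of_commute (χ : IrrCharacter G) {s n : ℤ} {t y : G} (ht : orderOf t = 2)
    (hyo : orderOf y = p) (hp2 : p ≠ 2) (hc : Commute t y)
    (hsing : ∀ g : G, p ∣ orderOf g → (χ : G → ℂ) g = (s : ℂ))
    (hn : (χ : G → ℂ) t = (n : ℂ)) (hdeg : (p : ℤ) ∣ (charDegree (χ : G → ℂ) : ℤ) - s) :
    (p : ℤ) ∣ n - s := by
  classical
  have hcop : Nat.Coprime 2 p := (Nat.coprime_primes Nat.prime_two hp.out).2 (Ne.symm hp2)
  have hord : orderOf (t * y) = 2 * p := by
    rw [hc.orderOf_mul_eq_mul_orderOf_of_coprime (by rw [ht, hyo]; exact hcop), ht, hyo]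
  set H := Subgroup.zpowers (t * y)
  haveI : Fintype H := Fintype.ofFinite _
  have hH : Nat.card H = 2 * p := by rw [Nat.card_zpowers, hord]
  have hty : (t * y) ^ p = t := by
    rw [hc.mul_pow, ← hyo, pow_orderOf_eq_one, mul_one, hyo]
    obtain ⟨k, hk⟩ := hp.out.odd_of_ne_two hp2
    rw [hk, pow_add, pow_mul, pow_one, show t ^ 2 = 1 by rw [← ht, pow_orderOf_eq_one], one_pow,
      one_mul]
  let τ : H := ⟨t, hty ▸ H.pow_mem (Subgroup.mem_zpowers _) p⟩
  have hτ : τ ≠ 1 := fun h1 => by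
    have : t = 1 := congrArg Subtype.val h1
    rw [this, orderOf_one] at ht
    omega
  have hrest : ∀ x ∈ (Finset.univ.erase (1 : H)).erase τ, (χ : G → ℂ) x = (s : ℂ) := by
    intro x hx
    obtain ⟨hxτ, hx'⟩ := Finset.mem_erase.1 hx
    have hx1 := Finset.ne_of_mem_erase hx'
    refine hsing _ ?_
    by_contra hd
    have h2 : orderOf (x : G) ∣ 2 := by
      have h3 : orderOf (x : G) ∣ 2 * p := hH ▸ Subgroup.orderOf_dvd_natCard H x.2
      exact Nat.Coprime.dvd_of_dvd_mul_right (hp.out.coprime_iff_not_dvd.2 hd).symm h3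
    have hxx : x ∈ Finset.univ.filter (fun a : H => a ^ 2 = 1) :=
      Finset.mem_filter.2 ⟨Finset.mem_univ _, Subtype.ext (by
        simpa using orderOf_dvd_iff_pow_eq_one.1 h2)⟩
    have hsub : ({1, τ, x} : Finset H) ⊆ Finset.univ.filter (fun a : H => a ^ 2 = 1) := by
      intro a ha
      simp only [Finset.mem_insert, Finset.mem_singleton] at ha
      rcases ha with rfl | rfl | rfl
      · simp
      · exact Finset.mem_filter.2 ⟨Finset.mem_univ _, Subtype.ext (by
          show t ^ 2 = 1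
          rw [← ht, pow_orderOf_eq_one])⟩
      · exact hxx
    have h4 := (Finset.card_le_card hsub).trans (IsCyclic.card_pow_eq_one_le (α := H) two_pos)
    rw [Finset.card_insert_of_notMem (by simp [hτ.symm, Ne.symm hx1]),
      Finset.card_pair (Ne.symm hxτ)] at h4
    omega
  obtain ⟨m, hm⟩ := H20.sum_apply_eq_card_mul (Q := H) χ
  rw [← Finset.add_sum_erase _ _ (Finset.mem_univ (1 : H)),
    ← Finset.add_sum_erase _ _ (Finset.mem_erase.2 ⟨hτ, Finset.mem_univ τ⟩),
    Finset.sum_congr rfl hrest, Finset.sum_const, Finset.card_erase_of_mem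
      (Finset.mem_erase.2 ⟨hτ, Finset.mem_univ τ⟩), Finset.card_erase_of_mem (Finset.mem_univ _),
    Finset.card_univ, ← Nat.card_eq_fintype_card, hH, nsmul_eq_mul, Subgroup.coe_one,
    H12.irr_apply_one, ← H20.charDegree_eq_degree, show ((τ : G)) = t from rfl, hn] at hm
  have h5 : 2 ≤ p := hp.out.two_le
  obtain ⟨q, hq⟩ : ∃ q : ℕ, 2 * p = q + 2 := ⟨2 * p - 2, by omega⟩
  rw [show 2 * p - 1 - 1 = q by omega] at hm
  have h6 : (charDegree (χ : G → ℂ) : ℤ) + (n + (q : ℤ) * s) = 2 * (p : ℤ) * m := by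
    apply Int.cast_injective (α := ℂ)
    push_cast at hm ⊢
    linear_combination hm
  have h7 : (q : ℤ) + 2 = 2 * (p : ℤ) := by exact_mod_cast hq.symm
  obtain ⟨k, hk⟩ := hdeg
  exact ⟨2 * m - 2 * s - k, by linear_combination h6 - hk - s * h7⟩

theorem count : CountStmt.{u} := by
  intro G _ _ p _ M hM hp2 P hcyc T t y ht h1c hy hyo
  classical
  haveI := Fintype.ofFinite G
  haveI : M.IsPrime := hM.2.1.isPrime
  haveI : Fintype (P : Subgroup G) := Fintype.ofFinite _
  haveI : Finite ((P : Subgroup G) →* ℂˣ) := H20.finite_dual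
  haveI : Fintype ((P : Subgroup G) →* ℂˣ) := Fintype.ofFinite _
  have h := freeSylow_cyclic hcyc
  have hy1 : y ≠ 1 := fun h1 => (Fact.out : p.Prime).ne_one (by rw [← hyo, h1, orderOf_one])
  set yP : (P : Subgroup G) := ⟨y, hy⟩ with hyP
  have hyP1 : yP ≠ 1 := fun h1 => hy1 (congrArg Subtype.val h1)
  haveI : Nontrivial (P : Subgroup G) := ⟨⟨yP, 1, hyP1⟩⟩
  obtain ⟨ψ, hψ⟩ := exists_ne_one_dual hcyc
  obtain ⟨n, hn, -⟩ := H20.irr_involution T.lam ht
  have hdd : T.δ * T.δ = 1 := by rcases T.δ_eq with h' | h' <;> rw [h'] <;> norm_num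
  set d := charDegree (T.lam : G → ℂ) with hd
  set e₁ := charDegree (T.ζ ψ : G → ℂ) with he₁
  have hl1 : (T.lam : G → ℂ) 1 = (d : ℂ) := by
    rw [hd, H12.irr_apply_one, H20.charDegree_eq_degree]
  have hz1 : (T.ζ ψ : G → ℂ) 1 = (e₁ : ℂ) := by
    rw [he₁, H12.irr_apply_one, H20.charDegree_eq_degree]
  have hd0 : d ≠ 0 := by
    rw [hd, H20.charDegree_eq_degree]; exact (H12.irr_degree_pos _).ne'
  have he0 : e₁ ≠ 0 := by
    rw [he₁, H20.charDegree_eq_degree]; exact (H12.irr_degree_pos _).ne'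
  have hrel1 : 1 + T.b = T.ε * (e₁ : ℤ) := by
    have h1 := T.rel ψ hψ 1 (by simp [(Fact.out : p.Prime).ne_one])
    rw [hl1, hz1] at h1
    apply Int.cast_injective (α := ℂ)
    rw [Triple.b]
    push_cast
    linear_combination h1
  have hε0 : T.ε ≠ 0 := by rcases T.ε_eq with h' | h' <;> omega
  have hb0 : T.b ≠ 0 := by
    rw [Triple.b]
    exact mul_ne_zero (by rcases T.δ_eq with h' | h' <;> omega) (Nat.cast_ne_zero.2 hd0)
  have hb1 : T.b ≠ -1 := fun h1 => by
    rw [h1, add_neg_cancel, eq_comm, mul_eq_zero] at hrel1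
    rcases hrel1 with h2 | h2
    · exact hε0 h2
    · exact he0 (by exact_mod_cast h2)
  have hdvd := card_dvd_degree_sub (P := P) T.lam (s := T.δ) (fun u hu hu1 =>
    T.lam_sing u (H20.FreeSylow.dvd_orderOf hu hu1))
  refine ⟨T.δ * n, by rw [hn]; push_cast; ring, hb0, hb1, ?_, fun hc => ?_, ?_⟩
  · have h1 : T.b - 1 = T.δ * ((d : ℤ) - T.δ) := by rw [Triple.b]; linear_combination hdd
    rw [h1]
    exact dvd_mul_of_dvd_right hdvd _
  · have hpd : (p : ℤ) ∣ (Nat.card (P : Subgroup G) : ℤ) :=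
      Int.natCast_dvd_natCast.2 (hyo.symm.dvd.trans (Subgroup.orderOf_dvd_natCard _ hy))
    have h1 := dvd_sub_of_commute T.lam ht hyo hp2 hc T.lam_sing hn (hpd.trans hdvd)
    rw [show T.δ * n - 1 = T.δ * (n - T.δ) by linear_combination hdd]
    exact dvd_mul_of_dvd_right h1 _
  -- the class sum identity
  have hmain := pair_sum h hcyc hM hp2 ht h1c hy hyo
  set Y := (Finset.univ.erase (1 : (P : Subgroup G) →* ℂˣ)).image T.ζ with hY
  have hone : (H12.oneIrr G : G → ℂ) = fun _ => 1 := funext fun g => H12.oneIrr_apply G g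
  have hB : (principalBlock M G).toFinite.toFinset = {H12.oneIrr G, T.lam} ∪ Y := by
    ext χ
    simp only [Set.Finite.mem_toFinset, Finset.mem_union, Finset.mem_insert, Finset.mem_singleton,
      hY, Finset.mem_image, Finset.mem_erase, Finset.mem_univ, and_true]
    constructor
    · intro hχ
      rcases T.block χ hχ with h1 | h1 | ⟨φ, hφ, h1⟩
      · exact Or.inl (Or.inl (Subtype.ext (h1.trans hone.symm)))
      · exact Or.inl (Or.inr h1)
      · exact Or.inr ⟨φ, hφ, h1.symm⟩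
    · rintro ((rfl | rfl) | ⟨φ, hφ, rfl⟩)
      · exact H20.mem_blockOf_self (H12.oneIrr G)
      · exact T.lam_mem
      · exact T.ζ_mem φ hφ
  have hdisj : Disjoint ({H12.oneIrr G, T.lam} : Finset (IrrCharacter G)) Y := by
    rw [Finset.disjoint_left]
    intro χ hχ hχY
    obtain ⟨φ, hφ, rfl⟩ := Finset.mem_image.1 hχY
    have hφ1 := Finset.ne_of_mem_erase hφ
    simp only [Finset.mem_insert, Finset.mem_singleton] at hχ
    rcases hχ with h1 | h1
    · exact (T.ζ_ne φ hφ1).2 (by rw [h1, hone])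
    · exact (T.ζ_ne φ hφ1).1 h1
  have hne : H12.oneIrr G ≠ T.lam := fun h1 => T.lam_ne (by rw [← h1, hone])
  have hζy : ∀ φ, φ ≠ 1 → conj ((T.ζ φ : G → ℂ) y) =
      (T.ε : ℂ) * ((φ yP : ℂ) + ((φ yP)⁻¹ : ℂˣ)) := by
    intro φ hφ
    have h1 := T.ζ_sing φ hφ yP hyP1 1 (Commute.one_right _) (by simp [(Fact.out : p.Prime).ne_one])
    rw [mul_one] at h1
    rw [show (T.ζ φ : G → ℂ) y = (T.ζ φ : G → ℂ) (yP : G) from rfl, h1, map_mul, map_add, map_intCast,
      ← map_inv, H20.conj_lin, H20.conj_lin, inv_inv, add_comm]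
  have hYsum : ∑ χ ∈ Y, conj ((χ : G → ℂ) y) = -(T.ε : ℂ) := by
    have hpodd : ∀ φ : (P : Subgroup G) →* ℂˣ, φ ≠ 1 → φ ≠ φ⁻¹ := by
      intro φ hφ hinv
      apply hφ
      ext u
      have h2 : φ u ^ 2 = 1 := by
        have := DFunLike.congr_fun hinv u
        rw [MonoidHom.inv_apply, eq_inv_iff_mul_eq_one] at this
        rw [pow_two, this]
      have h3 : φ u ^ Nat.card (P : Subgroup G) = 1 := by rw [← map_pow, pow_card_eq_one', map_one]
      have h4 := pow_gcd_eq_one.2 ⟨h2, h3⟩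
      rw [Nat.Coprime.gcd_eq_one (Nat.coprime_two_left.2 (card_sylow_odd (P := P) hp2).2),
        pow_one] at h4
      rw [h4, MonoidHom.one_apply]
    have h1 := Finset.sum_comp (s := Finset.univ.erase (1 : (P : Subgroup G) →* ℂˣ))
      (fun χ : IrrCharacter G => conj ((χ : G → ℂ) y)) T.ζ
    rw [Finset.sum_congr rfl (fun φ hφ => hζy φ (Finset.ne_of_mem_erase hφ)), ← Finset.mul_sum,
      Finset.sum_add_distrib, sum_nonone_dual h hyP1,
      Finset.sum_congr rfl (g := fun φ : (P : Subgroup G) →* ℂˣ => (φ yP⁻¹ : ℂ))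
        (fun φ _ => by rw [map_inv]),
      sum_nonone_dual h (inv_ne_one.2 hyP1)] at h1
    rw [← hY] at h1
    have h2 : ∑ χ ∈ Y, (Finset.univ.erase (1 : (P : Subgroup G) →* ℂˣ) |>.filter
        fun φ => T.ζ φ = χ).card • conj ((χ : G → ℂ) y) = ∑ χ ∈ Y, 2 • conj ((χ : G → ℂ) y) := by
      refine Finset.sum_congr rfl fun χ hχ => ?_
      obtain ⟨φ, hφ, rfl⟩ := Finset.mem_image.1 hχ
      have hφ1 := Finset.ne_of_mem_erase hφ
      congr 1
      rw [← Finset.card_pair (hpodd φ hφ1)]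
      congr 1
      ext ω
      simp only [Finset.mem_filter, Finset.mem_erase, Finset.mem_univ, and_true, Finset.mem_insert,
        Finset.mem_singleton]
      constructor
      · rintro ⟨hω, h3⟩
        exact (T.ζ_eq_iff φ ω hφ1 hω).1 h3.symm
      · rintro h3
        have hω : ω ≠ 1 := by
          rcases h3 with rfl | rfl
          · exact hφ1
          · intro h4
            apply hφ1
            ext u
            have := DFunLike.congr_fun h4 u
            simpa using this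
        exact ⟨hω, ((T.ζ_eq_iff φ ω hφ1 hω).2 h3).symm⟩
    rw [h2, ← Finset.smul_sum, two_nsmul] at h1
    linear_combination (-1 / 2 : ℂ) * h1
  rw [hB, Finset.sum_union hdisj, Finset.sum_pair hne, H12.oneIrr_apply, H12.oneIrr_apply,
    H12.oneIrr_apply, map_one, T.lam_sing y (by rw [hyo]), map_intCast, hn, hl1] at hmain
  have htreg : ¬ p ∣ orderOf t := by
    rw [ht]
    exact fun hd' => hp2 ((Nat.prime_dvd_prime_iff_eq (Fact.out : p.Prime) Nat.prime_two).1 hd')
  have hYterm : ∑ χ ∈ Y, conj ((χ : G → ℂ) y) * (χ : G → ℂ) t * (χ : G → ℂ) t / (χ : G → ℂ) 1 =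
      -(T.ε : ℂ) * ((T.ε : ℂ) * (1 + (T.δ : ℂ) * n)) ^ 2 / (e₁ : ℂ) := by
    rw [← hYsum, Finset.sum_mul, Finset.sum_div]
    refine Finset.sum_congr rfl fun χ hχ => ?_
    obtain ⟨φ, hφ, rfl⟩ := Finset.mem_image.1 hχ
    have hφ1 := Finset.ne_of_mem_erase hφ
    have hε2 : (T.ε : ℂ) * T.ε = 1 := by rcases T.ε_eq with h' | h' <;> rw [h'] <;> norm_num
    have e1 := T.rel φ hφ1 t htreg
    rw [hn] at e1
    have e2 := T.rel φ hφ1 1 (by simp [(Fact.out : p.Prime).ne_one])
    have e3 := T.rel ψ hψ 1 (by simp [(Fact.out : p.Prime).ne_one])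
    rw [e3, hz1] at e2
    have e4 : (T.ζ φ : G → ℂ) 1 = (e₁ : ℂ) :=
      mul_left_cancel₀ (Int.cast_ne_zero.2 hε0) e2.symm
    rw [e4, show (T.ζ φ : G → ℂ) t = (T.ε : ℂ) * (1 + (T.δ : ℂ) * n) by
      rw [e1, ← mul_assoc, hε2, one_mul]]
    ring
  rw [hYterm] at hmain
  apply Int.cast_injective (α := ℂ)
  have he2 : (e₁ : ℂ) = (T.ε : ℂ) * (1 + (T.δ : ℂ) * d) := by
    have h1 := congrArg (fun z : ℤ => (z : ℂ)) hrel1
    rw [Triple.b] at h1
    push_cast at h1
    have hε2 : (T.ε : ℂ) * T.ε = 1 := by rcases T.ε_eq with h' | h' <;> rw [h'] <;> norm_num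
    linear_combination -(T.ε : ℂ) * h1 - (e₁ : ℂ) * hε2
  have hd0' : (d : ℂ) ≠ 0 := Nat.cast_ne_zero.2 hd0
  have he0' : (e₁ : ℂ) ≠ 0 := Nat.cast_ne_zero.2 he0
  rw [he2] at he0' hmain
  have hw : (1 + (T.δ : ℂ) * d) ≠ 0 := right_ne_zero_of_mul he0'
  have hε2 : (T.ε : ℂ) * T.ε = 1 := by rcases T.ε_eq with h' | h' <;> rw [h'] <;> norm_num
  have e9 : -(T.ε : ℂ) * ((T.ε : ℂ) * (1 + (T.δ : ℂ) * n)) ^ 2 / ((T.ε : ℂ) * (1 + (T.δ : ℂ) * d)) =
      -((1 + (T.δ : ℂ) * n) ^ 2 / (1 + (T.δ : ℂ) * d)) := by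
    rw [← neg_div, div_eq_div_iff he0' hw]
    linear_combination (-(T.ε : ℂ) * (1 + (T.δ : ℂ) * n) ^ 2 * (1 + (T.δ : ℂ) * d)) * hε2
  rw [e9, one_mul, one_mul, div_one] at hmain
  have q1 := div_mul_cancel₀ ((T.δ : ℂ) * n * n) hd0'
  have q2 := div_mul_cancel₀ ((1 + (T.δ : ℂ) * n) ^ 2) hw
  rw [Triple.b, ← hd]
  push_cast
  generalize (T.δ : ℂ) * n * n / (d : ℂ) = z₁ at hmain q1
  generalize (1 + (T.δ : ℂ) * n) ^ 2 / (1 + (T.δ : ℂ) * d) = z₂ at hmain q2
  linear_combination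
    (-(T.δ : ℂ) * d * ((T.δ : ℂ) * d + 1)) * hmain -
      ((Nat.card (Subgroup.centralizer ({y} : Set G)) : ℂ) * (Nat.card G : ℂ)) *
        ((T.δ : ℂ) * (1 + (T.δ : ℂ) * d) * q1 - (T.δ : ℂ) * d * q2)

theorem sum_Y_conj (h : H20.FreeSylow P) (D : H20.FreeData M (P : Subgroup G))
    (he0 : ∀ η ∈ D.Y, D.b η = 0) {y : (P : Subgroup G)} (hy : y ≠ 1) :
    ∑ χ ∈ D.Y.toFinite.toFinset, conj ((χ : G → ℂ) y) = -(D.δ : ℂ) := by
  classical
  haveI : Fintype (H20.autG (P : Subgroup G)) := Fintype.ofFinite _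
  have hu : y⁻¹ ≠ 1 := inv_ne_one.2 hy
  have hf := D.sum_fiber h (fun χ => (χ : G → ℂ) (y⁻¹ : (P : Subgroup G)))
  rw [Finset.sum_congr rfl (g := fun φ : (P : Subgroup G) →* ℂˣ =>
      (D.δ : ℂ) * ∑ a : H20.autG (P : Subgroup G), (H20.dualTw φ a y⁻¹ : ℂ)) (fun φ hφ => by
        have hφ1 := Finset.ne_of_mem_erase hφ
        rw [D.apply_ζ h hφ1 hu, he0 _ ⟨φ, hφ1, rfl⟩]; simp),
    ← Finset.mul_sum, Finset.sum_comm, Finset.sum_congr rfl
      (s₂ := (Finset.univ : Finset (H20.autG (P : Subgroup G)))) (g := fun _ => (-1 : ℂ)) (fun a _ => by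
        simp only [H20.dualTw_apply]
        exact sum_nonone_dual h (fun h' => hu ((MulEquiv.map_eq_one_iff _).1 h'))),
    Finset.sum_const, Finset.card_univ, ← Nat.card_eq_fintype_card, nsmul_eq_mul,
    finsum_mem_eq_finite_toFinset_sum _ (Set.toFinite _)] at hf
  have he : (Nat.card (H20.autG (P : Subgroup G)) : ℂ) ≠ 0 := Nat.cast_ne_zero.2 Nat.card_pos.ne'
  refine mul_left_cancel₀ he ?_
  rw [Finset.sum_congr rfl (g := fun χ : IrrCharacter G => (χ : G → ℂ) (y⁻¹ : (P : Subgroup G)))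
    (fun χ _ => by rw [H20.conj_irr_eq]; rfl), hf]
  ring

theorem quad : QuadStmt.{u} := by
  intro G _ _ p _ M hM hp2 P hcyc hidx h7 t y ht h1c hy hyo hJ
  classical
  haveI := Fintype.ofFinite G
  haveI : M.IsPrime := hM.2.1.isPrime
  haveI : Fintype (P : Subgroup G) := Fintype.ofFinite _
  haveI : Finite ((P : Subgroup G) →* ℂˣ) := H20.finite_dual
  haveI : Fintype ((P : Subgroup G) →* ℂˣ) := Fintype.ofFinite _
  haveI : Fintype (H20.autG (P : Subgroup G)) := Fintype.ofFinite _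
  have h := freeSylow_cyclic hcyc
  have he : Nat.card (H20.autG (P : Subgroup G)) = 3 := (H20.card_autG _).trans hidx
  have hr : Nat.card (H20.autG (P : Subgroup G)) + 1 < Nat.card (P : Subgroup G) := by omega
  obtain ⟨D, hD0, hX3, hX1⟩ := h.exists_threeData hM he (by omega)
  have hone : H12.oneIrr G ∈ principalBlock M G \ D.Y :=
    ⟨H20.mem_blockOf_self (H12.oneIrr G), D.oneIrr_notMem h hr⟩
  set X := (principalBlock M G \ D.Y).toFinite.toFinset with hXdef
  have hoX : H12.oneIrr G ∈ X := (Set.Finite.mem_toFinset _).2 hone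
  have hc2 : (X.erase (H12.oneIrr G)).card = 2 := by
    rw [Finset.card_erase_of_mem hoX, hXdef,
      ← Set.ncard_eq_toFinset_card _, ← Nat.card_coe_set_eq, hX3]
  obtain ⟨l, m, hlm, hXe⟩ := Finset.card_eq_two.1 hc2
  have hlX' : l ∈ X.erase (H12.oneIrr G) := by rw [hXe]; simp
  have hmX' : m ∈ X.erase (H12.oneIrr G) := by rw [hXe]; simp
  have hlX := (Set.Finite.mem_toFinset _).1 (Finset.mem_of_mem_erase hlX')
  have hmX := (Set.Finite.mem_toFinset _).1 (Finset.mem_of_mem_erase hmX')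
  have hl1 : l ≠ H12.oneIrr G := Finset.ne_of_mem_erase hlX'
  have hm1 : m ≠ H12.oneIrr G := Finset.ne_of_mem_erase hmX'
  have hsumX : ∀ f : IrrCharacter G → ℂ,
      ∑ χ ∈ X, f χ = f (H12.oneIrr G) + (f l + f m) := fun f => by
    rw [← Finset.add_sum_erase X f hoX, hXe, Finset.sum_pair hlm]
  have hne : ∀ χ : IrrCharacter G, χ ≠ H12.oneIrr G → (χ : G → ℂ) ≠ fun _ => 1 := fun χ hχ he' =>
    hχ (Subtype.ext (he'.trans (funext fun g => (H12.oneIrr_apply G g).symm)))
  haveI : Nontrivial (P : Subgroup G) := Finite.one_lt_card_iff_nontrivial.1 (by omega)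
  obtain ⟨ψ, hψ⟩ := exists_ne_one_dual hcyc
  have hη : D.ζ ψ ∈ D.Y := ⟨ψ, hψ, rfl⟩
  have hreg1 : ¬ p ∣ orderOf (1 : G) := by simp [(Fact.out : p.Prime).ne_one]
  have hrel : ∀ g : G, ¬ p ∣ orderOf g →
      1 + ((-D.b l : ℤ) : ℂ) * (l : G → ℂ) g + ((-D.b m : ℤ) : ℂ) * (m : G → ℂ) g =
        (D.δ : ℂ) * (D.ζ ψ : G → ℂ) g := by
    intro g hg
    have h1 := D.regular_relation hM hη hg
    rw [finsum_mem_eq_finite_toFinset_sum _ (Set.toFinite _), ← hXdef, hsumX, hD0 _ hη,
      D.b_oneIrr h hr, H12.oneIrr_apply] at h1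
    push_cast at h1 ⊢
    linear_combination -h1
  have hval : ∀ u : (P : Subgroup G), u ≠ 1 → (D.ζ ψ : G → ℂ) u =
      (D.δ : ℂ) * ∑ a : H20.autG (P : Subgroup G), (H20.dualTw ψ a u : ℂ) := by
    intro u hu
    rw [D.apply_ζ h hψ hu, hD0 _ hη]
    simp
  let Q : Quad M P :=
    { lam := l
      mu := m
      δ := -D.b l
      δ' := -D.b m
      ε := D.δ
      X := D.ζ ψ
      δ_eq := by have := hX1 l hlX; omega
      δ'_eq := by have := hX1 m hmX; omega
      ε_eq := D.δ_eq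
      distinct := ⟨hlm, fun h' => hlX.2 (h' ▸ hη), fun h' => hmX.2 (h' ▸ hη)⟩
      nontriv := ⟨hne l hl1, hne m hm1, hne _ fun h' => hone.2 (h' ▸ hη)⟩
      lam_sing := fun g hg => nonexceptional_singular h hM D hlX hg
      mu_sing := fun g hg => nonexceptional_singular h hM D hmX hg
      X_shift := fun u hu w hw hwo => h.apply_shift hM (D.ζ_mem ψ hψ) u.2
        (fun h' => hu (Subtype.ext h')) ⟨w, Subgroup.mem_centralizer_singleton_iff.2 hw.symm⟩
        (by rwa [Subgroup.orderOf_mk])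
      X_sum := by
        rw [finsum_eq_sum_of_fintype, ← Finset.add_sum_erase _ _ (Finset.mem_univ (1 : (P : Subgroup G))),
          Finset.sum_congr rfl (fun u hu => hval u (Finset.ne_of_mem_erase hu)), ← Finset.mul_sum,
          Finset.sum_comm, Finset.sum_congr rfl (s₂ := (Finset.univ : Finset (H20.autG (P : Subgroup G))))
            (g := fun _ => (-1 : ℂ)) (fun a _ => by
              rw [Finset.sum_erase_eq_sub (Finset.mem_univ _), H20.sum_lin,
                if_neg (fun h' => hψ (H20.dualTw_eq_one_iff.1 h'))]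
              simp),
          Finset.sum_const, Finset.card_univ, ← Nat.card_eq_fintype_card, he, Subgroup.coe_one,
          nsmul_eq_mul]
        push_cast
        ring
      X_nonconst := by
        by_contra hcon
        push Not at hcon
        obtain ⟨v, hv⟩ := exists_ne (1 : (P : Subgroup G))
        have hδ2 : (D.δ : ℂ) * D.δ = 1 := by
          rcases D.δ_eq with h' | h' <;> rw [h'] <;> norm_num
        have hconst : ∀ u : (P : Subgroup G), u ≠ 1 →
            ∑ a : H20.autG (P : Subgroup G), (H20.dualTw ψ a u : ℂ) =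
              (D.δ : ℂ) * (D.ζ ψ : G → ℂ) v := by
          intro u hu
          rw [← hcon u v hu hv, hval u hu, ← mul_assoc, hδ2, one_mul]
        set c := (D.δ : ℂ) * (D.ζ ψ : G → ℂ) v
        set q := Nat.card (P : Subgroup G) with hq
        have h1 : ∑ u : (P : Subgroup G), ∑ a : H20.autG (P : Subgroup G),
            conj (ψ u : ℂ) * (H20.dualTw ψ a u : ℂ) = (q : ℂ) := by
          rw [Finset.sum_comm, Finset.sum_congr rfl fun a _ => H20.sum_conj_mul_lin ψ _,
            Finset.sum_eq_single (1 : H20.autG (P : Subgroup G))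
              (fun a _ ha => if_neg fun h' => ha (h.dualTw_free hψ h')) (by simp),
            if_pos (H20.dualTw_one ψ), ← hq]
        have h2 : ∑ u : (P : Subgroup G), ∑ a : H20.autG (P : Subgroup G),
            (H20.dualTw ψ a u : ℂ) = 0 := by
          rw [Finset.sum_comm]
          refine Finset.sum_eq_zero fun a _ => ?_
          rw [H20.sum_lin, if_neg (fun h' => hψ (H20.dualTw_eq_one_iff.1 h'))]
        rw [← Finset.add_sum_erase _ _ (Finset.mem_univ (1 : (P : Subgroup G)))] at h1 h2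
        simp only [map_one, Units.val_one, Finset.sum_const, Finset.card_univ,
          nsmul_eq_mul, mul_one] at h1 h2
        rw [← Nat.card_eq_fintype_card, he,
          Finset.sum_congr rfl (g := fun u : (P : Subgroup G) => conj (ψ u : ℂ) * c) (fun u hu => by
            rw [← Finset.mul_sum, hconst u (Finset.ne_of_mem_erase hu)]),
          ← Finset.sum_mul, Finset.sum_erase_eq_sub (Finset.mem_univ _), H20.sum_conj_lin,
          if_neg hψ] at h1
        rw [← Nat.card_eq_fintype_card, he,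
          Finset.sum_congr rfl (g := fun _ => c) (fun u hu => hconst u (Finset.ne_of_mem_erase hu)),
          Finset.sum_const, Finset.card_erase_of_mem (Finset.mem_univ _), Finset.card_univ,
          ← Nat.card_eq_fintype_card, ← hq, nsmul_eq_mul, Nat.cast_sub (by omega : 1 ≤ q)] at h2
        simp only [map_one, Units.val_one, zero_sub, neg_mul, one_mul] at h1
        push_cast at h1 h2
        have hcq : c = 3 - (q : ℂ) := by linear_combination -h1
        rw [hcq] at h2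
        have h3 : ((q : ℤ) * (4 - (q : ℤ)) : ℤ) = 0 := by
          apply Int.cast_injective (α := ℂ)
          push_cast
          linear_combination h2
        rcases mul_eq_zero.1 h3 with h4 | h4 <;> omega
      rel := hrel }
  obtain ⟨n, hn, -⟩ := H20.irr_involution l ht
  obtain ⟨k, hk, -⟩ := H20.irr_involution m ht
  have hb : ∀ χ ∈ principalBlock M G \ D.Y, D.b χ * D.b χ = 1 := fun χ hχ => by
    rcases hX1 χ hχ with h' | h' <;> rw [h'] <;> norm_num
  have hdeg : ∀ χ : IrrCharacter G, (χ : G → ℂ) 1 = (charDegree (χ : G → ℂ) : ℂ) := fun χ => by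
    rw [H12.irr_apply_one, H20.charDegree_eq_degree]
  have hdeg0 : ∀ χ : IrrCharacter G, (charDegree (χ : G → ℂ) : ℂ) ≠ 0 := fun χ => by
    rw [H20.charDegree_eq_degree]; exact Nat.cast_ne_zero.2 (H12.irr_degree_pos _).ne'
  have hdvd : ∀ χ ∈ principalBlock M G \ D.Y,
      (Nat.card (P : Subgroup G) : ℤ) ∣ -D.b χ * (charDegree (χ : G → ℂ) : ℤ) - 1 := by
    intro χ hχ
    have h1 := card_dvd_degree_sub (P := P) χ (s := -D.b χ) (fun u hu hu1 =>
      nonexceptional_singular h hM D hχ (H20.FreeSylow.dvd_orderOf hu hu1))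
    rw [show -D.b χ * (charDegree (χ : G → ℂ) : ℤ) - 1 =
      -D.b χ * ((charDegree (χ : G → ℂ) : ℤ) - -D.b χ) by linear_combination (hb χ hχ)]
    exact dvd_mul_of_dvd_right h1 _
  set b := -D.b l * (charDegree (l : G → ℂ) : ℤ) with hbdef
  set d := -D.b m * (charDegree (m : G → ℂ) : ℤ) with hddef
  have hsum1 : 1 + (b : ℂ) + (d : ℂ) = (D.δ : ℂ) * (charDegree (D.ζ ψ : G → ℂ) : ℂ) := by
    rw [← hdeg, ← hrel 1 hreg1, hdeg, hdeg, hbdef, hddef]
    push_cast
    ring
  have hbd : 1 + b + d ≠ 0 := by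
    intro h0
    have h1 : (1 + (b : ℂ) + (d : ℂ)) = 0 := by exact_mod_cast congrArg (fun z : ℤ => (z : ℂ)) h0
    rw [hsum1, mul_eq_zero] at h1
    rcases h1 with h1 | h1
    · rcases D.δ_eq with h' | h' <;> rw [h'] at h1 <;> norm_num at h1
    · exact hdeg0 _ h1
  refine ⟨Q, -D.b l * n, -D.b m * k, b, d, ?_, ?_, rfl, rfl, hdvd l hlX, hdvd m hmX, hbd, ?_⟩
  · show ((-D.b l : ℤ) : ℂ) * (l : G → ℂ) t = _
    rw [hn]; push_cast; ring
  · show ((-D.b m : ℤ) : ℂ) * (m : G → ℂ) t = _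
    rw [hk]; push_cast; ring
  -- the class sum identity
  have hy1 : y ≠ 1 := fun h1 => (Fact.out : p.Prime).ne_one (by rw [← hyo, h1, orderOf_one])
  have hyP1 : (⟨y, hy⟩ : (P : Subgroup G)) ≠ 1 := fun h1 => hy1 (congrArg Subtype.val h1)
  have hmain := pair_sum h hcyc hM hp2 ht h1c hy hyo
  rw [hJ, Nat.cast_zero, zero_pow two_ne_zero, mul_zero, eq_comm, mul_eq_zero] at hmain
  replace hmain := hmain.resolve_left (mul_ne_zero (Nat.cast_ne_zero.2 Nat.card_pos.ne')
    (Nat.cast_ne_zero.2 Nat.card_pos.ne'))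
  have hB : (principalBlock M G).toFinite.toFinset = X ∪ D.Y.toFinite.toFinset := by
    ext χ
    simp only [hXdef, Set.Finite.mem_toFinset, Finset.mem_union, Set.mem_sdiff]
    constructor
    · intro hχ
      by_cases hY : χ ∈ D.Y
      · exact Or.inr hY
      · exact Or.inl ⟨hχ, hY⟩
    · rintro (h1 | h1)
      · exact h1.1
      · exact D.Y_subset h1
  have hdisj : Disjoint X D.Y.toFinite.toFinset := by
    rw [Finset.disjoint_left]
    intro χ hχ hχY
    exact ((Set.Finite.mem_toFinset _).1 hχ).2 ((Set.Finite.mem_toFinset _).1 hχY)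
  have htreg : ¬ p ∣ orderOf t := by
    rw [ht]
    exact fun hd' => hp2 ((Nat.prime_dvd_prime_iff_eq (Fact.out : p.Prime) Nat.prime_two).1 hd')
  have hYterm : ∑ χ ∈ D.Y.toFinite.toFinset,
      conj ((χ : G → ℂ) y) * (χ : G → ℂ) t * (χ : G → ℂ) t / (χ : G → ℂ) 1 =
      -(D.δ : ℂ) * (D.ζ ψ : G → ℂ) t ^ 2 / (charDegree (D.ζ ψ : G → ℂ) : ℂ) := by
    rw [← sum_Y_conj h D hD0 hyP1, Finset.sum_mul, Finset.sum_div]
    refine Finset.sum_congr rfl fun χ hχ => ?_
    have hχY := (Set.Finite.mem_toFinset _).1 hχ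
    rw [D.apply_regular hM hχY hη htreg, D.apply_regular hM hχY hη hreg1, hdeg]
    ring
  have hyv : ∀ χ ∈ principalBlock M G \ D.Y, conj ((χ : G → ℂ) y) = ((-D.b χ : ℤ) : ℂ) :=
    fun χ hχ => by rw [nonexceptional_singular h hM D hχ (by rw [hyo]), map_intCast]
  rw [hB, Finset.sum_union hdisj, hsumX, hYterm, hyv l hlX, hyv m hmX, H12.oneIrr_apply,
    H12.oneIrr_apply, H12.oneIrr_apply, map_one, hn, hk, hdeg, hdeg, one_mul, one_mul,
    div_one] at hmain
  have hrt := hrel t htreg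
  rw [hn, hk] at hrt
  have hδ2 : (D.δ : ℂ) * D.δ = 1 := by rcases D.δ_eq with h' | h' <;> rw [h'] <;> norm_num
  have hl2 : ((-D.b l : ℤ) : ℂ) * ((-D.b l : ℤ) : ℂ) = 1 := by
    exact_mod_cast (show -D.b l * -D.b l = 1 by linear_combination hb l hlX)
  have hm2 : ((-D.b m : ℤ) : ℂ) * ((-D.b m : ℤ) : ℂ) = 1 := by
    exact_mod_cast (show -D.b m * -D.b m = 1 by linear_combination hb m hmX)
  apply Rat.cast_injective (α := ℂ)
  rw [hbdef, hddef]
  simp only [Rat.cast_add, Rat.cast_div, Rat.cast_pow, Rat.cast_one, Rat.cast_intCast]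
  push_cast at hrt hsum1 hmain hl2 hm2 ⊢
  rw [hbdef, hddef] at hsum1
  push_cast at hsum1
  rw [hsum1, show (1 : ℂ) + -(D.b l : ℂ) * n + -(D.b m : ℂ) * k = (D.δ : ℂ) * (D.ζ ψ : G → ℂ) t from
    hrt]
  have e1 : ((D.δ : ℂ) * (D.ζ ψ : G → ℂ) t) ^ 2 / ((D.δ : ℂ) * (charDegree (D.ζ ψ : G → ℂ) : ℂ)) =
      (D.δ : ℂ) * (D.ζ ψ : G → ℂ) t ^ 2 / (charDegree (D.ζ ψ : G → ℂ) : ℂ) := by
    rw [div_eq_div_iff (mul_ne_zero (left_ne_zero_of_mul (hδ2 ▸ one_ne_zero)) (hdeg0 _)) (hdeg0 _)]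
    ring
  have e2 : (-(D.b l : ℂ) * n) ^ 2 / (-(D.b l : ℂ) * (charDegree (l : G → ℂ) : ℂ)) =
      -(D.b l : ℂ) * n * n / (charDegree (l : G → ℂ) : ℂ) := by
    rw [div_eq_div_iff (mul_ne_zero (left_ne_zero_of_mul (hl2 ▸ one_ne_zero)) (hdeg0 _)) (hdeg0 _)]
    ring
  have e3 : (-(D.b m : ℂ) * k) ^ 2 / (-(D.b m : ℂ) * (charDegree (m : G → ℂ) : ℂ)) =
      -(D.b m : ℂ) * k * k / (charDegree (m : G → ℂ) : ℂ) := by
    rw [div_eq_div_iff (mul_ne_zero (left_ne_zero_of_mul (hm2 ▸ one_ne_zero)) (hdeg0 _)) (hdeg0 _)]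
    ring
  rw [e1, e2, e3]
  linear_combination hmain

end H4.CSy
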