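import Cfsg.Agent.H65.CyclicPairs
import Cfsg.Agent.H20.PrincipalFreeApps
import Cfsg.Agent.H21.RegPart
import Cfsg.Agent.H76.CSy.Defs

/-!
# Pairs of involutions with product in a `p`-section, for a cyclic Sylow subgroup
-/

set_option autoImplicit false
set_option linter.style.haveILetI false
set_option linter.unusedSectionVars false

open Cfsg H76.CSy
open scoped ComplexConjugate

namespace H4.CSy

universe u

variable {G : Type u} [Group G] [Fintype G] {p : ℕ} [hp : Fact p.Prime] {P : Sylow p G}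

/-- A cyclic Sylow subgroup has free inertial action. -/
theorem freeSylow_cyclic (hP : IsCyclic (P : Subgroup G)) : H20.FreeSylow P := by
  have hcomm : ∀ a ∈ (P : Subgroup G), ∀ b ∈ (P : Subgroup G), a * b = b * a := fun a ha b hb =>
    congrArg Subtype.val (IsCyclic.commGroup.mul_comm (⟨a, ha⟩ : (P : Subgroup G)) ⟨b, hb⟩)
  refine ⟨hcomm, fun y hy hy1 g hg => ?_⟩
  obtain ⟨c, v, rfl, ⟨k, hc⟩, hv, hc', hv'⟩ := H5.exists_p_decomposition (p := p) g
  have hcP : c ∈ (P : Subgroup G) := by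
    have hcn := (Subgroup.zpowers_le.2 hg.2) hc'
    obtain ⟨j, -, hj⟩ := (Nat.dvd_prime_pow hp.out).1 (orderOf_dvd_of_pow_eq_one hc)
    exact ((IsPGroup.inf_normalizer_sylow (IsPGroup.of_card (n := j)
      (by rw [Nat.card_zpowers, hj])) P).le ⟨Subgroup.mem_zpowers c, hcn⟩).2
  have hvn := (Subgroup.zpowers_le.2 hg.2) hv'
  have hvy : Commute v y :=
    Subgroup.mem_centralizer_singleton_iff.1 ((Subgroup.zpowers_le.2 hg.1) hv')
  obtain ⟨gen, hgen⟩ := (Subgroup.isCyclic_iff_exists_zpowers_eq_top _).1 hP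
  have hgenP : gen ∈ (P : Subgroup G) := hgen ▸ Subgroup.mem_zpowers gen
  have hvg : Commute v gen := by
    refine H33.commute_of_conj_mem_zpowers hv ?_ ?_ (hgen.symm ▸ hy) hy1 hvy
    · obtain ⟨j, hj⟩ := P.isPGroup'.exists_card_eq
      rw [← hgen, Nat.card_zpowers] at hj
      exact ⟨j, hj⟩
    · rw [hgen]; exact (Subgroup.mem_normalizer_iff.1 hvn gen).1 hgenP
  refine Subgroup.mem_centralizer_iff.2 fun w hw => ?_
  have hcw : Commute w c := hcomm w hw c hcP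
  rw [← hgen] at hw
  obtain ⟨i, rfl⟩ := Subgroup.mem_zpowers_iff.1 hw
  exact (hcw.mul_right (hvg.symm.zpow_left i)).eq

/-- An involutory endomorphism of a cyclic group of odd prime power order which inverts a
nontrivial element inverts everything. -/
theorem eq_inv_of_involutory {A : Type*} [Group A] [Finite A] [IsCyclic A] (hA : IsPGroup p A)
    (hp2 : p ≠ 2) (α : A →* A) (hinv : ∀ u, α (α u) = u) {y : A} (hy : y ≠ 1) (hαy : α y = y⁻¹)
    (u : A) : α u = u⁻¹ := by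
  obtain ⟨g, hg⟩ := IsCyclic.exists_generator (α := A)
  obtain ⟨m, hm⟩ := MonoidHom.map_cyclic α
  obtain ⟨k, hk⟩ := IsPGroup.iff_orderOf.1 hA g
  obtain ⟨j, hj⟩ := IsPGroup.iff_orderOf.1 hA y
  have hpy : (p : ℤ) ∣ m + 1 := by
    have h1 : y ^ (m + 1) = 1 := by rw [zpow_add_one, ← hm, hαy, inv_mul_cancel]
    rw [← orderOf_dvd_iff_zpow_eq_one, hj] at h1
    refine dvd_trans ?_ h1
    push_cast
    exact dvd_pow_self _ fun h0 => hy (orderOf_eq_one_iff.1 (by rw [hj, h0, pow_zero]))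
  have hcop : IsCoprime ((p : ℤ) ^ k) (m - 1) := by
    refine IsCoprime.pow_left ((Nat.prime_iff_prime_int.1 hp.out).coprime_iff_not_dvd.2 fun hd => ?_)
    have h2 : (p : ℤ) ∣ ((2 : ℕ) : ℤ) := by
      have := dvd_sub hpy hd
      rwa [show m + 1 - (m - 1) = ((2 : ℕ) : ℤ) by push_cast; ring] at this
    exact hp2 ((Nat.prime_dvd_prime_iff_eq hp.out Nat.prime_two).1 (Int.natCast_dvd_natCast.1 h2))
  have h3 : g ^ ((m - 1) * (m + 1)) = 1 := by
    rw [show (m - 1) * (m + 1) = m * m + -1 by ring, zpow_add, zpow_mul, ← hm, ← hm, hinv,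
      zpow_neg_one, mul_inv_cancel]
  rw [← orderOf_dvd_iff_zpow_eq_one, hk, Nat.cast_pow] at h3
  have h4 : g ^ (m + 1) = 1 := by
    rw [← orderOf_dvd_iff_zpow_eq_one, hk, Nat.cast_pow]
    exact hcop.dvd_of_dvd_mul_left h3
  obtain ⟨n, rfl⟩ := Subgroup.mem_zpowers_iff.1 (hg u)
  rw [map_zpow, show α g = g⁻¹ from ?_, inv_zpow]
  rw [hm, eq_inv_iff_mul_eq_one, ← zpow_add_one, h4]

theorem mul_self_of_orderOf_two {i : G} (h : orderOf i = 2) : i * i = 1 := by
  have := pow_orderOf_eq_one i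
  rwa [h, pow_two] at this

theorem inv_of_orderOf_two {i : G} (h : orderOf i = 2) : i⁻¹ = i :=
  inv_eq_of_mul_eq_one_right (mul_self_of_orderOf_two h)

theorem conj_prod_inv {i j : G} (hi : orderOf i = 2) (hj : orderOf j = 2) :
    i * (i * j) * i⁻¹ = (i * j)⁻¹ ∧ j * (i * j) * j⁻¹ = (i * j)⁻¹ := by
  rw [mul_inv_rev, inv_of_orderOf_two hi, inv_of_orderOf_two hj]
  refine ⟨?_, ?_⟩
  · rw [← mul_assoc, mul_self_of_orderOf_two hi, one_mul]
  · rw [mul_assoc, mul_assoc, mul_self_of_orderOf_two hj, mul_one]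

/-- The involutions inverting `y`. -/
abbrev Inv2 (y : G) : Type u := {i : G // orderOf i = 2 ∧ i * y * i⁻¹ = y⁻¹}

theorem Inv2.mul_mem_centralizer {y : G} (i i' : Inv2 y) :
    (i : G) * i' ∈ Subgroup.centralizer ({y} : Set G) := by
  rw [Subgroup.mem_centralizer_singleton_iff]
  have h1 := mul_inv_eq_iff_eq_mul.1 i'.2.2
  have h2 : (i : G) * y⁻¹ = y * i := by
    refine mul_inv_eq_iff_eq_mul.1 ?_
    rw [← conj_inv, i.2.2, inv_inv]
  rw [mul_assoc, h1, ← mul_assoc, h2, mul_assoc]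

/-- Among the involutions inverting `y` the regular ratios are equidistributed over `P`. -/
theorem card_regular_ratio (h : H20.FreeSylow P) (hcyc : IsCyclic (P : Subgroup G)) (hp2 : p ≠ 2)
    {y : G} (hy : y ∈ (P : Subgroup G)) (hy1 : y ≠ 1) (i : Inv2 y) :
    Nat.card {i' : Inv2 y // ¬ p ∣ orderOf ((i : G) * i')} * Nat.card (P : Subgroup G) =
      invCount G y := by
  classical
  set C := Subgroup.centralizer ({y} : Set G) with hC
  obtain ⟨Q, N, hN, hc⟩ := h.centralizer_complement hy hy1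
  haveI := hN
  have hidx : N.index = Nat.card (Q : Subgroup C) := hc.symm.index_eq_card
  have hNp : ¬ p ∣ Nat.card N := by
    rw [← hc.index_eq_card]
    exact Q.not_dvd_index
  have hreg : ∀ c : C, c ∈ N ↔ ¬ p ∣ orderOf c := by
    intro c
    constructor
    · intro hcN hd
      exact hNp (hd.trans (N.orderOf_dvd_natCard hcN))
    · intro hd
      refine H21.mem_of_coprime_index N ?_
      obtain ⟨j, hj⟩ := IsPGroup.iff_card.1 Q.isPGroup'
      rw [hidx, hj]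
      exact Nat.Coprime.pow_right _ (hp.out.coprime_iff_not_dvd.2 hd).symm
  have hPC := h.le_centralizer hy
  let ι : (P : Subgroup G) →* C ⧸ N :=
    (QuotientGroup.mk' N).comp (Subgroup.inclusion hPC)
  have hinj : Function.Injective ι := by
    rw [injective_iff_map_eq_one]
    intro u hu
    have h1 := (hreg _).1 ((QuotientGroup.eq_one_iff _).1 hu)
    rw [← Subgroup.orderOf_coe] at h1
    by_contra hne
    exact h1 (H20.FreeSylow.dvd_orderOf u.2 fun he => hne (Subtype.ext he))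
  have hbij : Function.Bijective ι := by
    refine (Nat.bijective_iff_injective_and_card _).2 ⟨hinj, ?_⟩
    have h1 : Nat.card (C ⧸ N) = Nat.card (Q : Subgroup C) := hidx
    rw [h1, Q.card_eq_multiplicity, ← (P.subtype hPC).card_eq_multiplicity]
    exact Nat.card_congr (Subgroup.subgroupOfEquivOfLe hPC).toEquiv.symm
  let e := MulEquiv.ofBijective ι hbij
  have he : ∀ u, ι u = e u := fun _ => rfl
  -- conjugation by `i` on `C ⧸ N`
  have hiy : ∀ c : G, c ∈ C → (i : G) * c * (i : G)⁻¹ ∈ C := by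
    intro c hc'
    rw [hC, Subgroup.mem_centralizer_singleton_iff] at hc' ⊢
    have h1 : (i : G) * (c * y) * (i : G)⁻¹ = (i : G) * (y * c) * (i : G)⁻¹ := by rw [hc']
    rw [conj_mul.symm, conj_mul.symm, i.2.2] at h1
    calc (i : G) * c * (i : G)⁻¹ * y
        = y * ((y⁻¹ * ((i : G) * c * (i : G)⁻¹)) * y) := by group
      _ = y * ((i : G) * c * (i : G)⁻¹) := by rw [← h1]; group
  let κ : C →* C :=
    { toFun := fun c => ⟨(i : G) * c * (i : G)⁻¹, hiy c c.2⟩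
      map_one' := Subtype.ext (by simp)
      map_mul' := fun a b => Subtype.ext (by
        show (i : G) * ((a : G) * b) * (i : G)⁻¹ = _
        exact conj_mul.symm) }
  have hκN : N ≤ N.comap κ := fun c hcN => (hreg _).2 (by
    rw [← Subgroup.orderOf_coe]
    show ¬ p ∣ orderOf ((i : G) * c * (i : G)⁻¹)
    rw [H20.orderOf_conj', Subgroup.orderOf_coe]
    exact (hreg c).1 hcN)
  let κq := QuotientGroup.map N N κ hκN
  let α : (P : Subgroup G) →* (P : Subgroup G) :=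
    e.symm.toMonoidHom.comp (κq.comp e.toMonoidHom)
  haveI := hcyc
  have hκκ : ∀ c : C, κ (κ c) = c := fun c => Subtype.ext (by
    show (i : G) * ((i : G) * c * (i : G)⁻¹) * (i : G)⁻¹ = c
    rw [inv_of_orderOf_two i.2.1, ← mul_assoc, ← mul_assoc, mul_self_of_orderOf_two i.2.1, one_mul,
      mul_assoc, mul_self_of_orderOf_two i.2.1, mul_one])
  have hα : ∀ u, e (α u) = κq (e u) := fun u => e.apply_symm_apply _
  have hαinv : ∀ u, α u = u⁻¹ := by
    refine eq_inv_of_involutory P.isPGroup' hp2 α (fun u => e.injective ?_)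
      (y := ⟨y, hy⟩) (fun h1 => hy1 (congrArg Subtype.val h1)) (e.injective ?_)
    · rw [hα, hα]
      obtain ⟨c, hc'⟩ := QuotientGroup.mk'_surjective N (e u)
      rw [← hc']
      exact congrArg (QuotientGroup.mk' N) (hκκ c)
    · rw [hα, map_inv]
      show QuotientGroup.mk' N (κ (Subgroup.inclusion hPC ⟨y, hy⟩)) = _
      rw [← he, ← map_inv]
      refine congrArg (QuotientGroup.mk' N) (Subtype.ext ?_)
      exact i.2.2
  have hκι : ∀ u : (P : Subgroup G), κq (ι u) = ι u⁻¹ := fun u => by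
    rw [he, he, ← hα, hαinv]
  -- the ratio map
  let f : Inv2 y → (P : Subgroup G) := fun i' =>
    e.symm (QuotientGroup.mk' N ⟨(i : G) * i', i.mul_mem_centralizer i'⟩)
  have hact : ∀ (u : (P : Subgroup G)) (i' : Inv2 y),
      orderOf ((u : G) * i' * (u : G)⁻¹) = 2 ∧
        (u : G) * i' * (u : G)⁻¹ * y * ((u : G) * i' * (u : G)⁻¹)⁻¹ = y⁻¹ := by
    intro u i'
    refine ⟨by rw [H20.orderOf_conj', i'.2.1], ?_⟩
    have h1 : (u : G)⁻¹ * y * u = y := by
      rw [mul_assoc, ← h.comm _ u.2 y hy, inv_mul_cancel_left]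
    calc (u : G) * i' * (u : G)⁻¹ * y * ((u : G) * i' * (u : G)⁻¹)⁻¹
        = (u : G) * ((i' : G) * ((u : G)⁻¹ * y * u) * (i' : G)⁻¹) * (u : G)⁻¹ := by group
      _ = (u : G) * y⁻¹ * (u : G)⁻¹ := by rw [h1, i'.2.2]
      _ = y⁻¹ := by
          rw [show (u : G) * y⁻¹ * (u : G)⁻¹ = (u * y * (u : G)⁻¹)⁻¹ by group,
            h.comm _ u.2 y hy, mul_inv_cancel_right]
  let act : ↥(P : Subgroup G) → Inv2 y → Inv2 y := fun u i' =>
    ⟨(u : G) * i' * (u : G)⁻¹, hact u i'⟩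
  have hf : ∀ u i', f (act u i') = (u ^ 2)⁻¹ * f i' := by
    intro u i'
    apply e.injective
    rw [map_mul]
    simp only [f, MulEquiv.apply_symm_apply]
    rw [← he]
    have h1 : (⟨(i : G) * act u i', i.mul_mem_centralizer (act u i')⟩ : C) =
        κ (Subgroup.inclusion hPC u) * ⟨(i : G) * i', i.mul_mem_centralizer i'⟩ *
          Subgroup.inclusion hPC u⁻¹ := Subtype.ext (by
      show (i : G) * ((u : G) * i' * (u : G)⁻¹) =
        (i : G) * u * (i : G)⁻¹ * ((i : G) * i') * (u : G)⁻¹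
      group)
    rw [h1, map_mul, map_mul, show QuotientGroup.mk' N (κ (Subgroup.inclusion hPC u)) = ι u⁻¹ from
      hκι u]
    obtain ⟨w, hw⟩ := hbij.2 (QuotientGroup.mk' N ⟨(i : G) * i', i.mul_mem_centralizer i'⟩)
    rw [← hw]
    show ι u⁻¹ * ι w * ι u⁻¹ = ι (u ^ 2)⁻¹ * ι w
    rw [← map_mul, ← map_mul, ← map_mul]
    congr 1
    letI := IsCyclic.commGroup (α := (P : Subgroup G))
    rw [mul_right_comm, pow_two, mul_inv_rev]
  have hker : ∀ i' : Inv2 y, ¬ p ∣ orderOf ((i : G) * i') ↔ f i' = 1 := by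
    intro i'
    rw [MulEquiv.map_eq_one_iff, QuotientGroup.mk'_apply, QuotientGroup.eq_one_iff, hreg, ← Subgroup.orderOf_coe]
  have hodd : (Nat.card (P : Subgroup G)).Coprime 2 := by
    obtain ⟨j, hj⟩ := IsPGroup.iff_card.1 P.isPGroup'
    rw [hj]
    exact Nat.Coprime.pow_left _ ((Nat.coprime_primes hp.out Nat.prime_two).2 hp2)
  have hsq := (powCoprime (G := (P : Subgroup G)) hodd)
  have hsqb : Function.Bijective (fun u : (P : Subgroup G) => u ^ 2) :=
    (powCoprime (G := (P : Subgroup G)) hodd).bijective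
  let F : {i' : Inv2 y // ¬ p ∣ orderOf ((i : G) * i')} × (P : Subgroup G) → Inv2 y :=
    fun x => act x.2 x.1.1
  have hfF : ∀ x, f (F x) = (x.2 ^ 2)⁻¹ := fun x => by
    show f (act x.2 x.1.1) = _
    rw [hf, (hker _).1 x.1.2, mul_one]
  have hFb : Function.Bijective F := by
    constructor
    · rintro ⟨⟨a, ha⟩, u⟩ ⟨⟨b, hb⟩, w⟩ heq
      have huw : u = w := hsqb.1 (inv_injective (by
        have := congrArg f heq
        rwa [hfF, hfF] at this))
      subst huw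
      have : (a : G) = b := by
        have h1 : (u : G) * a * (u : G)⁻¹ = (u : G) * b * (u : G)⁻¹ := congrArg Subtype.val heq
        exact mul_left_cancel (mul_right_cancel h1)
      exact Prod.ext (Subtype.ext (Subtype.ext this)) rfl
    · intro i'
      obtain ⟨u, hu⟩ := hsqb.2 (f i')⁻¹
      refine ⟨(⟨act u⁻¹ i', (hker _).2 ?_⟩, u), Subtype.ext ?_⟩
      · rw [hf, show (u⁻¹ ^ 2)⁻¹ = (f i')⁻¹ by rw [inv_pow, inv_inv]; exact hu, inv_mul_cancel]
      · show (u : G) * ((u : G)⁻¹ * i' * ((u : G)⁻¹)⁻¹) * (u : G)⁻¹ = i'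
        group
  rw [← Nat.card_prod]
  exact Nat.card_eq_of_bijective F hFb

/-- The number of pairs with regular ratio. -/
theorem card_regular_pairs (h : H20.FreeSylow P) (hcyc : IsCyclic (P : Subgroup G)) (hp2 : p ≠ 2)
    {y : G} (hy : y ∈ (P : Subgroup G)) (hy1 : y ≠ 1) :
    Nat.card {q : Inv2 y × Inv2 y // ¬ p ∣ orderOf ((q.1 : G) * q.2)} * Nat.card (P : Subgroup G) =
      invCount G y * invCount G y := by
  classical
  rw [Nat.card_congr (Equiv.subtypeProdEquivSigmaSubtype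
    (fun a b : Inv2 y => ¬ p ∣ orderOf ((a : G) * b))), Nat.card_sigma, Finset.sum_mul,
    Finset.sum_congr rfl fun i _ => card_regular_ratio h hcyc hp2 hy hy1 i, Finset.sum_const,
    Finset.card_univ, ← Nat.card_eq_fintype_card, smul_eq_mul]
  rfl

/-- Pairs of involutions whose product has `p`-part `y`. -/
theorem card_pairs_at (hp2 : p ≠ 2) {y : G} (hy : orderOf y = p) :
    Nat.card {q : G × G // orderOf q.1 = 2 ∧ orderOf q.2 = 2 ∧ H20.pPart p (q.1 * q.2) = y} =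
      Nat.card {q : Inv2 y × Inv2 y // ¬ p ∣ orderOf ((q.1 : G) * q.2)} := by
  have hy2 : ∀ j : G, orderOf j = 2 → y ≠ j := fun j hj he => hp2 (by rw [← hy, he, hj])
  have inv_y : ∀ i w : G, i * w * i⁻¹ = w⁻¹ → H20.pPart p w = y → i * y * i⁻¹ = y⁻¹ := by
    intro i w hw hwy
    rw [← hwy, ← H20.pPart_conj, hw, H20.pPart_inv]
  refine Nat.card_congr ?_
  refine
    { toFun := fun q => ?_
      invFun := fun q => ⟨((q.1.1 : G), y⁻¹ * (q.1.2 : G)), q.1.1.2.1, ?_, ?_⟩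
      left_inv := ?_
      right_inv := ?_ }
  · have h1 := conj_prod_inv q.2.1 q.2.2.1
    have hj := inv_y _ _ h1.2 q.2.2.2
    have hi := inv_y _ _ h1.1 q.2.2.2
    have hsq : (y * q.1.2) * (y * q.1.2) = 1 := by
      have : q.1.2 * y = y⁻¹ * q.1.2 := mul_inv_eq_iff_eq_mul.1 hj
      rw [mul_assoc, ← mul_assoc q.1.2, this, mul_assoc y⁻¹, mul_self_of_orderOf_two q.2.2.1,
        mul_one, mul_inv_cancel]
    have hne : y * q.1.2 ≠ 1 := fun he =>
      hy2 _ q.2.2.1 (by rw [← inv_of_orderOf_two q.2.2.1]; exact eq_inv_of_mul_eq_one_left he)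
    refine ⟨(⟨q.1.1, q.2.1, hi⟩,
      ⟨y * q.1.2, orderOf_eq_prime (by rw [pow_two, hsq]) hne, ?_⟩), ?_⟩
    · calc y * q.1.2 * y * (y * q.1.2)⁻¹ = y * (q.1.2 * y * q.1.2⁻¹) * y⁻¹ := by group
        _ = y⁻¹ := by rw [hj]; group
    · show ¬ p ∣ orderOf (q.1.1 * (y * q.1.2))
      have h2 : q.1.1 * (y * q.1.2) = y⁻¹ * (q.1.1 * q.1.2) := by
        rw [← mul_assoc, mul_inv_eq_iff_eq_mul.1 hi, mul_assoc]
      rw [h2]
      have h3 := H20.pPart_mul_qPart (p := p) (q.1.1 * q.1.2)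
      rw [q.2.2.2] at h3
      nth_rewrite 1 [← h3]
      rw [inv_mul_cancel_left]
      exact H20.not_dvd_orderOf_qPart _
  · obtain ⟨⟨⟨i, hi2, hi⟩, ⟨j, hj2, hj⟩⟩, hreg⟩ := q
    show orderOf (y⁻¹ * j) = 2
    have h1 : j * y⁻¹ = y * j := by
      refine mul_inv_eq_iff_eq_mul.1 ?_
      rw [← conj_inv, hj, inv_inv]
    refine orderOf_eq_prime ?_ fun he => hy2 j hj2 (inv_mul_eq_one.1 he)
    rw [pow_two, mul_assoc, ← mul_assoc j, h1, mul_assoc y, mul_self_of_orderOf_two hj2,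
      mul_one, inv_mul_cancel]
  · obtain ⟨⟨⟨i, hi2, hi⟩, ⟨j, hj2, hj⟩⟩, hreg⟩ := q
    show H20.pPart p (i * (y⁻¹ * j)) = y
    have h1 : i * y⁻¹ = y * i := by
      refine mul_inv_eq_iff_eq_mul.1 ?_
      rw [← conj_inv, hi, inv_inv]
    have hcm : Commute y (i * j) :=
      (Subgroup.mem_centralizer_singleton_iff.1
        (Inv2.mul_mem_centralizer (⟨i, hi2, hi⟩ : Inv2 y) ⟨j, hj2, hj⟩)).symm
    exact ((H20.isPPart_unique' (by rw [← mul_assoc, ← h1, mul_assoc]) hcm ⟨1, by rw [hy, pow_one]⟩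
      hreg).1).symm
  · intro q
    exact Subtype.ext (Prod.ext rfl (inv_mul_cancel_left y _))
  · intro q
    exact Subtype.ext (Prod.ext rfl (Subtype.ext (mul_inv_cancel_left y _)))

/-- All pairs of involutions whose product has `p`-part conjugate to `y`. -/
theorem card_pairs_all (y : G) :
    Nat.card {q : G × G // orderOf q.1 = 2 ∧ orderOf q.2 = 2 ∧
      IsConj y (H20.pPart p (q.1 * q.2))} * Nat.card (Subgroup.centralizer ({y} : Set G)) =
    Nat.card G *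
      Nat.card {q : G × G // orderOf q.1 = 2 ∧ orderOf q.2 = 2 ∧ H20.pPart p (q.1 * q.2) = y} := by
  classical
  have hr : ∀ z : {z : G // IsConj y z}, ∃ c : G, c * y * c⁻¹ = z := fun z => isConj_iff.1 z.2
  choose r hr using hr
  rw [← Nat.card_prod, ← Nat.card_prod]
  refine Nat.card_eq_of_bijective (fun x =>
    (r ⟨_, x.1.2.2.2⟩ * (x.2 : G),
      ⟨((r ⟨_, x.1.2.2.2⟩ * (x.2 : G))⁻¹ * x.1.1.1 * (r ⟨_, x.1.2.2.2⟩ * (x.2 : G)),
        (r ⟨_, x.1.2.2.2⟩ * (x.2 : G))⁻¹ * x.1.1.2 * (r ⟨_, x.1.2.2.2⟩ * (x.2 : G))), ?_, ?_, ?_⟩))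
    ⟨?_, ?_⟩
  · have := H20.orderOf_conj' (r ⟨_, x.1.2.2.2⟩ * (x.2 : G))⁻¹ x.1.1.1
    rw [inv_inv] at this
    exact this.trans x.1.2.1
  · have := H20.orderOf_conj' (r ⟨_, x.1.2.2.2⟩ * (x.2 : G))⁻¹ x.1.1.2
    rw [inv_inv] at this
    exact this.trans x.1.2.2.1
  · set g := r ⟨_, x.1.2.2.2⟩ * (x.2 : G) with hg
    have h1 := H20.pPart_conj (p := p) (x.1.1.1 * x.1.1.2) g⁻¹
    rw [inv_inv] at h1
    have h2 : g * y * g⁻¹ = H20.pPart p (x.1.1.1 * x.1.1.2) := by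
      rw [hg]
      have hc : (x.2 : G) * y = y * x.2 := Subgroup.mem_centralizer_singleton_iff.1 x.2.2
      calc r ⟨_, x.1.2.2.2⟩ * (x.2 : G) * y * (r ⟨_, x.1.2.2.2⟩ * (x.2 : G))⁻¹
          = r ⟨_, x.1.2.2.2⟩ * ((x.2 : G) * y) * (x.2 : G)⁻¹ * (r ⟨_, x.1.2.2.2⟩)⁻¹ := by group
        _ = r ⟨_, x.1.2.2.2⟩ * y * (r ⟨_, x.1.2.2.2⟩)⁻¹ := by rw [hc]; group
        _ = _ := hr _
    show H20.pPart p (g⁻¹ * x.1.1.1 * g * (g⁻¹ * x.1.1.2 * g)) = y
    rw [show g⁻¹ * x.1.1.1 * g * (g⁻¹ * x.1.1.2 * g) = g⁻¹ * (x.1.1.1 * x.1.1.2) * g by group, h1,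
      ← h2]
    group
  · rintro ⟨⟨⟨a, b⟩, ha, hb, hab⟩, c⟩ ⟨⟨⟨a', b'⟩, ha', hb', hab'⟩, c'⟩ heq
    simp only [Prod.mk.injEq, Subtype.mk.injEq] at heq
    obtain ⟨hg, h1, h2⟩ := heq
    rw [hg] at h1 h2
    have e1 : a = a' := mul_left_cancel (mul_right_cancel h1)
    have e2 : b = b' := mul_left_cancel (mul_right_cancel h2)
    subst e1 e2
    exact Prod.ext rfl (Subtype.ext (mul_left_cancel hg))
  · rintro ⟨g, ⟨⟨a, b⟩, ha, hb, hab⟩⟩
    simp only at ha hb hab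
    have hpp : H20.pPart p (g * a * g⁻¹ * (g * b * g⁻¹)) = g * y * g⁻¹ := by
      rw [show g * a * g⁻¹ * (g * b * g⁻¹) = g * (a * b) * g⁻¹ by group, H20.pPart_conj, hab]
    have hz : IsConj y (H20.pPart p (g * a * g⁻¹ * (g * b * g⁻¹))) :=
      isConj_iff.2 ⟨g, hpp.symm⟩
    have hc : (r ⟨_, hz⟩)⁻¹ * g ∈ Subgroup.centralizer ({y} : Set G) := by
      rw [Subgroup.mem_centralizer_singleton_iff]
      have h1 : r ⟨_, hz⟩ * y * (r ⟨_, hz⟩)⁻¹ = g * y * g⁻¹ := (hr ⟨_, hz⟩).trans hpp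
      calc (r ⟨_, hz⟩)⁻¹ * g * y = (r ⟨_, hz⟩)⁻¹ * (g * y * g⁻¹) * g := by group
        _ = y * ((r ⟨_, hz⟩)⁻¹ * g) := by rw [← h1]; group
    refine ⟨(⟨(g * a * g⁻¹, g * b * g⁻¹), by rw [H20.orderOf_conj', ha],
      by rw [H20.orderOf_conj', hb], hz⟩, ⟨_, hc⟩), ?_⟩
    simp only [Prod.mk.injEq, Subtype.mk.injEq, mul_inv_cancel_left]
    refine ⟨trivial, ?_, ?_⟩ <;> group

/-- Conjugators against pairs. -/
theorem card_conjugators {t : G} (ht : orderOf t = 2) (h1c : OneClass G t) (R : G → Prop)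
    (hR : ∀ w c : G, R w → R (c * w * c⁻¹)) :
    Nat.card G * Nat.card {a : G // R (t * (a * t * a⁻¹))} =
      Nat.card {q : G × G // orderOf q.1 = 2 ∧ orderOf q.2 = 2 ∧ R (q.1 * q.2)} *
        (Nat.card (Subgroup.centralizer ({t} : Set G)) *
          Nat.card (Subgroup.centralizer ({t} : Set G))) := by
  classical
  have hr : ∀ i : {i : G // orderOf i = 2}, ∃ c : G, c * t * c⁻¹ = i := fun i =>
    isConj_iff.1 (h1c i.1 i.2)
  choose r hr using hr
  let E := {q : G × G // R (q.1 * t * q.1⁻¹ * (q.2 * t * q.2⁻¹))}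
  have e1 : Nat.card E = Nat.card G * Nat.card {a : G // R (t * (a * t * a⁻¹))} := by
    rw [← Nat.card_prod]
    refine Nat.card_congr
      { toFun := fun q => (q.1.1, ⟨q.1.1⁻¹ * q.1.2, ?_⟩)
        invFun := fun x => ⟨(x.1, x.1 * x.2.1), ?_⟩
        left_inv := fun q => Subtype.ext (Prod.ext rfl (mul_inv_cancel_left _ _))
        right_inv := fun x => Prod.ext rfl (Subtype.ext (inv_mul_cancel_left _ _)) }
    · have := hR _ q.1.1⁻¹ q.2
      convert this using 1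
      group
    · have := hR _ x.1 x.2.2
      convert this using 1
      group
  rw [← e1, ← Nat.card_prod, ← Nat.card_prod]
  have hcent : ∀ (i : {i : G // orderOf i = 2}) (c : Subgroup.centralizer ({t} : Set G)),
      r i * c * t * (r i * c)⁻¹ = i := by
    intro i c
    have hc : (c : G) * t = t * c := Subgroup.mem_centralizer_singleton_iff.1 c.2
    rw [mul_assoc (r i), hc, mul_inv_rev, ← hr i]
    group
  refine (Nat.card_eq_of_bijective (fun x =>
    (⟨(r ⟨_, x.1.2.1⟩ * (x.2.1 : G), r ⟨_, x.1.2.2.1⟩ * (x.2.2 : G)), ?_⟩ : E)) ⟨?_, ?_⟩).symm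
  · show R _
    rw [hcent, hcent]
    exact x.1.2.2.2
  · rintro ⟨⟨⟨a, b⟩, ha, hb, hab⟩, c, d⟩ ⟨⟨⟨a', b'⟩, ha', hb', hab'⟩, c', d'⟩ heq
    have h1 := congrArg (fun q : E => q.1.1 * t * q.1.1⁻¹) heq
    have h2 := congrArg (fun q : E => q.1.2 * t * q.1.2⁻¹) heq
    simp only [hcent] at h1 h2
    subst h1 h2
    have h3 := congrArg (fun q : E => q.1) heq
    simp only [Prod.mk.injEq] at h3
    exact Prod.ext rfl (Prod.ext (Subtype.ext (mul_left_cancel h3.1))
      (Subtype.ext (mul_left_cancel h3.2)))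
  · rintro ⟨⟨g, h⟩, hgh⟩
    have ho : ∀ g : G, orderOf (g * t * g⁻¹) = 2 := fun g => by rw [H20.orderOf_conj', ht]
    have hm : ∀ (g : G), (r ⟨_, ho g⟩)⁻¹ * g ∈ Subgroup.centralizer ({t} : Set G) := by
      intro g
      rw [Subgroup.mem_centralizer_singleton_iff]
      have h9 : r ⟨_, ho g⟩ * t * (r ⟨_, ho g⟩)⁻¹ = g * t * g⁻¹ := hr ⟨_, ho g⟩
      generalize r ⟨_, ho g⟩ = c at h9 ⊢
      calc c⁻¹ * g * t = c⁻¹ * (g * t * g⁻¹) * g := by group
        _ = t * (c⁻¹ * g) := by rw [← h9]; group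
    refine ⟨(⟨(g * t * g⁻¹, h * t * h⁻¹), ho g, ho h, hgh⟩, ⟨_, hm g⟩, ⟨_, hm h⟩), ?_⟩
    exact Subtype.ext (Prod.ext (mul_inv_cancel_left _ _) (mul_inv_cancel_left _ _))

variable {M : Ideal AlgInt} [hMp : M.IsPrime]

/-- Brauer's class sum identity for pairs of involutions in the section of `y`. -/
theorem pair_sum (h : H20.FreeSylow P) (hcyc : IsCyclic (P : Subgroup G)) (hM : IsPModular p M)
    (hp2 : p ≠ 2) {t y : G} (ht : orderOf t = 2) (h1c : OneClass G t) (hy : y ∈ (P : Subgroup G))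
    (hyo : orderOf y = p) :
    (Nat.card (Subgroup.centralizer ({t} : Set G)) : ℂ) ^ 2 * (invCount G y : ℂ) ^ 2 =
      (Nat.card (Subgroup.centralizer ({y} : Set G)) : ℂ) * (Nat.card G : ℂ) *
        ∑ χ ∈ (principalBlock M G).toFinite.toFinset,
          conj ((χ : G → ℂ) y) * (χ : G → ℂ) t * (χ : G → ℂ) t / (χ : G → ℂ) 1 := by
  classical
  have hy1 : y ≠ 1 := fun h1 => hp.out.ne_one (by rw [← hyo, h1, orderOf_one])
  set e := Nat.card (H20.autG (P : Subgroup G)) with he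
  have he0 : (e : ℂ) ≠ 0 := Nat.cast_ne_zero.2 Nat.card_pos.ne'
  have hcount := H65.CycPair.count h hM (Φ := fun w => IsConj y w)
    (fun a b hab ha => ha.trans hab) t t
  have hA : ∀ s : Finset G, (∀ a, a ∈ s ↔ p ∣ orderOf (t * (a * t * a⁻¹)) ∧
      IsConj y (H20.pPart p (t * (a * t * a⁻¹)))) →
      s.card = Nat.card {a : G // IsConj y (H20.pPart p (t * (a * t * a⁻¹)))} := by
    intro s hs
    rw [← Nat.card_eq_finsetCard]
    refine Nat.card_congr (Equiv.subtypeEquivRight fun a => ?_)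
    rw [hs a]
    refine ⟨fun h1 => h1.2, fun h1 => ⟨?_, h1⟩⟩
    by_contra hd
    rw [H20.pPart_eq_one_iff.2 hd] at h1
    exact hy1 (isConj_one_left.1 h1)
  have hu : ∀ (χ : IrrCharacter G) (s : Finset G),
      (∀ u, u ∈ s ↔ u ∈ (P : Subgroup G) ∧ u ≠ 1 ∧ IsConj y u) →
      (∑ u ∈ s, conj ((χ : G → ℂ) u)) = (e : ℂ) * conj ((χ : G → ℂ) y) := by
    intro χ s hs
    rw [Finset.sum_congr rfl (g := fun _ => conj ((χ : G → ℂ) y)) fun u hu => by
        rw [H12.IsClassFunction.of_isConj (H12.irr_isClassFunction χ) ((hs u).1 hu).2.2.symm],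
      Finset.sum_const, nsmul_eq_mul, he, ← H65.CycPair.card_conjs h hy hy1]
    congr 3
    ext w
    simp only [hs, Finset.mem_filter, Finset.mem_univ, true_and]
    exact ⟨fun h1 => ⟨h1.1, h1.2.2.symm⟩,
      fun h1 => ⟨h1.1, fun h2 => hy1 (isConj_one_right.1 (h2 ▸ h1.2)), h1.2.symm⟩⟩
  rw [hA _ (fun a => by simp), Finset.sum_congr rfl
    (g := fun χ : IrrCharacter G =>
      (e : ℂ) * conj ((χ : G → ℂ) y) * (χ : G → ℂ) t * (χ : G → ℂ) t / (χ : G → ℂ) 1)
    fun χ _ => by rw [hu χ _ (fun u => by simp)]] at hcount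
  set SS := ∑ χ ∈ (principalBlock M G).toFinite.toFinset,
    conj ((χ : G → ℂ) y) * (χ : G → ℂ) t * (χ : G → ℂ) t / (χ : G → ℂ) 1 with hSS
  set A := Nat.card {a : G // IsConj y (H20.pPart p (t * (a * t * a⁻¹)))} with hAdef
  have hcount' : (Nat.card (P : Subgroup G) : ℂ) * (A : ℂ) = (Nat.card G : ℂ) * SS := by
    refine mul_left_cancel₀ he0 ?_
    rw [hSS, Finset.mul_sum, Finset.mul_sum, ← mul_assoc, mul_comm (e : ℂ),
      hcount, Finset.mul_sum]
    refine Finset.sum_congr (by ext; simp) fun χ _ => ?_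
    ring
  have h1 := card_conjugators ht h1c (fun w => IsConj y (H20.pPart p w))
    (fun w c hw => by rw [H20.pPart_conj]; exact hw.trans (isConj_iff.2 ⟨c, rfl⟩))
  have h2 := card_pairs_all (p := p) y
  rw [card_pairs_at hp2 hyo] at h2
  have h3 := card_regular_pairs h hcyc hp2 hy hy1
  rw [← hAdef] at h1
  have c1 := congrArg (Nat.cast : ℕ → ℂ) h1
  have c2 := congrArg (Nat.cast : ℕ → ℂ) h2
  have c3 := congrArg (Nat.cast : ℕ → ℂ) h3
  push_cast at c1 c2 c3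
  have hG : (Nat.card G : ℂ) ≠ 0 := Nat.cast_ne_zero.2 Nat.card_pos.ne'
  refine mul_left_cancel₀ hG ?_
  set S := (Nat.card {q : G × G // orderOf q.1 = 2 ∧ orderOf q.2 = 2 ∧
    IsConj y (H20.pPart p (q.1 * q.2))} : ℂ)
  linear_combination
    (-(Nat.card G : ℂ) * (Nat.card (Subgroup.centralizer ({t} : Set G)) : ℂ) ^ 2) * c3 -
    ((Nat.card (Subgroup.centralizer ({t} : Set G)) : ℂ) ^ 2 * (Nat.card (P : Subgroup G) : ℂ)) * c2 -
    ((Nat.card (Subgroup.centralizer ({y} : Set G)) : ℂ) * (Nat.card (P : Subgroup G) : ℂ)) * c1 +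
    ((Nat.card (Subgroup.centralizer ({y} : Set G)) : ℂ) * (Nat.card G : ℂ)) * hcount'

end H4.CSy
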